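import Cfsg.Agent.Rud.Mult.Main
import Cfsg.Agent.RudOut.Main
import Cfsg.Agent.RudLat.Main
import Cfsg.Agent.ProjExt.Schur
import Cfsg.Prelude.Def_CaseTheorems

/-!
The double cover of the Rudvalis group is unique, and its automorphisms are inner.
-/

set_option autoImplicit false
set_option maxRecDepth 100000

namespace Cfsg.Agent.StdRu

open Subgroup
open Cfsg.Agent.Rud (Hgrp Kgrp)
open Cfsg.Agent.Rud.Mult (cover cover_stem card_cover_ker ker_card_dvd commutator_Hgrp)

attribute [local irreducible] Rud.Kgrp Rud.Hgrp Rud.Mult.cover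

/-- A stem extension of a perfect group is perfect. -/
theorem perfect_of_stem {Γ H : Type*} [Group Γ] [Group H] (π : Γ →* H)
    (h : Cfsg.IsStemExtension π) (hH : _root_.commutator H = ⊤) : _root_.commutator Γ = ⊤ := by
  have hmap : (_root_.commutator Γ).map π = ⊤ := by
    rw [_root_.commutator_def, Subgroup.map_commutator, Subgroup.map_top_of_surjective π h.1,
      ← _root_.commutator_def, hH]
  rw [eq_top_iff]
  intro a _
  obtain ⟨u, hu, e⟩ := Subgroup.mem_map.1 (hmap ▸ mem_top (π a))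
  have hk : a * u⁻¹ ∈ π.ker := by rw [MonoidHom.mem_ker, map_mul, map_inv, e, mul_inv_cancel]
  rw [show a = a * u⁻¹ * u by group]
  exact mul_mem (h.2.2 hk) hu

theorem cover_perfect : _root_.commutator ↥(_root_.commutator ↥Kgrp) = ⊤ :=
  perfect_of_stem cover cover_stem commutator_Hgrp

theorem cover_surjective : Function.Surjective cover := cover_stem.1

theorem cover_ker : cover.ker = Subgroup.center ↥(_root_.commutator ↥Kgrp) := by
  refine le_antisymm cover_stem.2.1 fun z hz => ?_
  rw [MonoidHom.mem_ker, ← Subgroup.mem_bot, ← RudLat.center_Hgrp, Subgroup.mem_center_iff]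
  intro h
  obtain ⟨f, rfl⟩ := cover_surjective h
  rw [← map_mul, ← map_mul, Subgroup.mem_center_iff.1 hz f]

/-- Perfect central extensions with kernels of order 2 are isomorphic. -/
theorem cover_unique {H₁ H₂ : Type} [Group H₁] [Finite H₁] [Group H₂] [Finite H₂]
    (σ₁ : H₁ →* ↥Hgrp) (σ₂ : H₂ →* ↥Hgrp) (hs₁ : Function.Surjective σ₁) (hs₂ : Function.Surjective σ₂)
    (hz₁ : σ₁.ker ≤ center H₁) (hz₂ : σ₂.ker ≤ center H₂)
    (hp₁ : _root_.commutator H₁ = ⊤) (hp₂ : _root_.commutator H₂ = ⊤)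
    (hk₁ : Nat.card σ₁.ker = 2) (hk₂ : Nat.card σ₂.ker = 2) : Nonempty (H₁ ≃* H₂) := by
  classical
  let Γ : Subgroup (H₁ × H₂) :=
    { carrier := {p | σ₁ p.1 = σ₂ p.2}
      one_mem' := by simp
      mul_mem' := fun {a b} ha hb => by
        simp only [Set.mem_setOf_eq, Prod.fst_mul, Prod.snd_mul, map_mul] at ha hb ⊢
        rw [ha, hb]
      inv_mem' := fun {a} ha => by
        simp only [Set.mem_setOf_eq, Prod.fst_inv, Prod.snd_inv, map_inv] at ha ⊢
        rw [ha] }
  let τ : Γ →* ↥Hgrp := (σ₁.comp (MonoidHom.fst H₁ H₂)).comp Γ.subtype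
  have hτs : Function.Surjective τ := fun x => by
    obtain ⟨a, ha⟩ := hs₁ x
    obtain ⟨b, hb⟩ := hs₂ x
    exact ⟨⟨(a, b), ha.trans hb.symm⟩, ha⟩
  have hτz : τ.ker ≤ center Γ := fun g hg => by
    have h1 : σ₁ g.1.1 = 1 := hg
    have h2 : σ₂ g.1.2 = 1 := g.2.symm.trans h1
    refine mem_center_iff.mpr fun x => Subtype.ext (Prod.ext ?_ ?_)
    · exact mem_center_iff.mp (hz₁ h1) _
    · exact mem_center_iff.mp (hz₂ h2) _
  obtain ⟨D, hD⟩ : ∃ D, D = _root_.commutator Γ := ⟨_, rfl⟩
  let π : D →* ↥Hgrp := τ.comp D.subtype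
  have hπs : Function.Surjective π := by
    intro x
    have hmap : D.map τ = ⊤ := by
      rw [hD, _root_.commutator_def, Subgroup.map_commutator, Subgroup.map_top_of_surjective τ hτs,
        ← _root_.commutator_def, commutator_Hgrp]
    obtain ⟨u, hu, e⟩ := Subgroup.mem_map.1 (hmap ▸ mem_top x)
    exact ⟨⟨u, hu⟩, e⟩
  have hperfD : _root_.commutator D = ⊤ := by
    refine eq_top_iff.2 fun d _ => ?_
    have hDle : D ≤ _root_.commutator Γ := hD.le
    obtain ⟨e, he, hed⟩ := ProjExt.Schur.commutator_le_range (τ := τ) D.subtype hτz hπs (hDle d.2)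
    have hed' : e = d := Subgroup.subtype_injective D hed
    exact hed' ▸ he
  have hstem : Cfsg.IsStemExtension π :=
    ⟨hπs, fun d hd => mem_center_iff.mpr fun x => Subtype.ext (mem_center_iff.mp (hτz hd) x.1),
      by rw [hperfD]; exact le_top⟩
  have hπk : Nat.card π.ker ≤ 2 := Nat.le_of_dvd (by norm_num) (ker_card_dvd π hstem)
  have hcardD : Nat.card D ≤ 2 * Nat.card ↥Hgrp := by
    rw [← Subgroup.card_mul_index π.ker, Subgroup.index_ker, MonoidHom.range_eq_top.mpr hπs, card_top]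
    exact Nat.mul_le_mul_right _ hπk
  have key : ∀ {H : Type} [Group H] [Finite H] (σ : H →* ↥Hgrp) (q : Γ →* H),
      Function.Surjective σ → σ.ker ≤ center H → _root_.commutator H = ⊤ → Nat.card σ.ker = 2 →
      (∀ g, σ (q g) = τ g) → Nonempty (D ≃* H) := by
    intro H _ _ σ q hs hz hp hk hq
    let f : D →* H := q.comp D.subtype
    have hπf : Function.Surjective (σ.comp f) := fun x => by
      obtain ⟨d, hd⟩ := hπs x
      exact ⟨d, (hq _).trans hd⟩
    have hfs : Function.Surjective f := fun x => by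
      obtain ⟨d, -, hd⟩ := ProjExt.Schur.commutator_le_range (τ := σ) f hz hπf (hp ▸ mem_top x)
      exact ⟨d, hd⟩
    have hcardH : Nat.card H = 2 * Nat.card ↥Hgrp := by
      rw [← Subgroup.card_mul_index σ.ker, Subgroup.index_ker, MonoidHom.range_eq_top.mpr hs, card_top,
        hk]
    have hle := Nat.card_le_card_of_surjective f hfs
    exact ⟨MulEquiv.ofBijective f ((Nat.bijective_iff_surjective_and_card f).mpr ⟨hfs, by omega⟩)⟩
  obtain ⟨e₁⟩ := key σ₁ ((MonoidHom.fst H₁ H₂).comp Γ.subtype) hs₁ hz₁ hp₁ hk₁ (fun g => rfl)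
  obtain ⟨e₂⟩ := key σ₂ ((MonoidHom.snd H₁ H₂).comp Γ.subtype) hs₂ hz₂ hp₂ hk₂ (fun g => g.2.symm)
  exact ⟨e₁.symm.trans e₂⟩

/-- A quasisimple group with centre of order 2 over the Rudvalis group is the double cover. -/
theorem iso_cover {A : Type*} [Group A] [Finite A] (hA : Cfsg.IsQuasisimple A)
    (hZ : Nat.card (Subgroup.center A) = 2) (hR : Cfsg.Spor.IsoRu (A ⧸ Subgroup.center A)) :
    Nonempty (↥(_root_.commutator ↥Kgrp) ≃* A) := by
  obtain ⟨e⟩ := hR
  let s : A →* ↥Hgrp := (e.trans RudLat.ruEquiv).toMonoidHom.comp (QuotientGroup.mk' (center A))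
  have hs : Function.Surjective s := (e.trans RudLat.ruEquiv).surjective.comp QuotientGroup.mk_surjective
  have hk : s.ker = center A :=
    (MonoidHom.ker_mulEquiv_comp _ (e.trans RudLat.ruEquiv)).trans (QuotientGroup.ker_mk' _)
  have : Finite (Shrink.{0} A) := Finite.of_equiv A (equivShrink.{0} A)
  let m : Shrink.{0} A ≃* A := Shrink.mulEquiv
  let σ₁ : Shrink.{0} A →* ↥Hgrp := s.comp m.toMonoidHom
  have hs₁ : Function.Surjective σ₁ := hs.comp m.surjective
  have hz₁ : σ₁.ker ≤ center (Shrink.{0} A) := fun x hx => by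
    have hx' : m x ∈ center A := hk ▸ (show m x ∈ s.ker from hx)
    exact mem_center_iff.2 fun y => m.injective (by rw [map_mul, map_mul, mem_center_iff.1 hx' (m y)])
  have hp₁ : _root_.commutator (Shrink.{0} A) = ⊤ := by
    have h := congrArg (Subgroup.map m.symm.toMonoidHom) hA.1.1
    rw [_root_.commutator_def, Subgroup.map_commutator,
      Subgroup.map_top_of_surjective _ m.symm.surjective, ← _root_.commutator_def] at h
    exact h
  have hk₁ : Nat.card σ₁.ker = 2 := by
    refine Eq.trans (Nat.card_congr ?_) hZ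
    exact
      { toFun := fun x => ⟨m x, hk ▸ (show m x ∈ s.ker from x.2)⟩
        invFun := fun y => ⟨m.symm y, by
          show s (m (m.symm y)) = 1
          rw [m.apply_symm_apply, ← MonoidHom.mem_ker, hk]
          exact y.2⟩
        left_inv := fun x => Subtype.ext (m.symm_apply_apply x)
        right_inv := fun y => Subtype.ext (m.apply_symm_apply y) }
  obtain ⟨f⟩ := cover_unique σ₁ cover hs₁ cover_surjective hz₁ cover_stem.2.1 hp₁ cover_perfect
    hk₁ card_cover_ker
  exact ⟨f.symm.trans m⟩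

/-- Every automorphism of the double cover is inner. -/
theorem aut_inner (α : MulAut ↥(_root_.commutator ↥Kgrp)) : ∃ g, α = MulAut.conj g := by
  have hcen : ∀ z, z ∈ center ↥(_root_.commutator ↥Kgrp) → α z ∈ center ↥(_root_.commutator ↥Kgrp) :=
    fun z hz => mem_center_iff.2 fun y => by
      obtain ⟨y, rfl⟩ := α.surjective y
      rw [← map_mul, ← map_mul, mem_center_iff.1 hz y]
  have hle : cover.ker ≤ (cover.comp α.toMonoidHom).ker := fun z hz => by
    show α z ∈ cover.ker
    rw [cover_ker] at hz ⊢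
    exact hcen z hz
  let f : ↥Hgrp →* ↥Hgrp := cover.liftOfSurjective cover_surjective ⟨cover.comp α.toMonoidHom, hle⟩
  have hf : ∀ x, f (cover x) = cover (α x) := fun x =>
    MonoidHom.liftOfRightInverse_comp_apply _ _ _ _ x
  have hfs : Function.Surjective f := fun y => by
    obtain ⟨x, rfl⟩ := cover_surjective y
    exact ⟨cover (α.symm x), by rw [hf, MulEquiv.apply_symm_apply]⟩
  let β : MulAut ↥Hgrp := MulEquiv.ofBijective f ⟨Finite.injective_iff_surjective.2 hfs, hfs⟩
  have hβ : β ∈ Cfsg.Inn ↥Hgrp := by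
    have h := RudOut.card_out
    rw [Nat.card_eq_one_iff_unique] at h
    have := h.1
    exact (QuotientGroup.eq_one_iff β).1 (Subsingleton.elim _ _)
  obtain ⟨h, hh⟩ := hβ
  obtain ⟨g, rfl⟩ := cover_surjective h
  refine ⟨g, ?_⟩
  -- the quotient of the two automorphisms is trivial modulo the centre
  set γ : MulAut ↥(_root_.commutator ↥Kgrp) := (MulAut.conj g)⁻¹ * α with hγ
  have hd : ∀ x, x⁻¹ * γ x ∈ center ↥(_root_.commutator ↥Kgrp) := fun x => by
    rw [← cover_ker, MonoidHom.mem_ker]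
    show cover (x⁻¹ * (g⁻¹ * α x * g⁻¹⁻¹)) = 1
    have hx : cover (α x) = cover g * cover x * (cover g)⁻¹ := by
      rw [← hf x]
      exact (DFunLike.congr_fun hh (cover x)).symm
    simp only [map_mul, map_inv, hx, inv_inv]
    group
  let d : ↥(_root_.commutator ↥Kgrp) →* center ↥(_root_.commutator ↥Kgrp) :=
    MonoidHom.mk' (fun x => ⟨x⁻¹ * γ x, hd x⟩) fun x y => Subtype.ext (by
      show (x * y)⁻¹ * γ (x * y) = x⁻¹ * γ x * (y⁻¹ * γ y)
      calc (x * y)⁻¹ * γ (x * y) = y⁻¹ * (x⁻¹ * γ x) * γ y := by rw [map_mul, mul_inv_rev]; group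
        _ = x⁻¹ * γ x * y⁻¹ * γ y := by rw [mem_center_iff.1 (hd x) y⁻¹]
        _ = _ := by group)
  have hd1 : ∀ x, d x = 1 := fun x => by
    have : _root_.commutator ↥(_root_.commutator ↥Kgrp) ≤ d.ker := by
      rw [_root_.commutator_def ↥(_root_.commutator ↥Kgrp), commutator_le]
      intro a _ b _
      rw [MonoidHom.mem_ker, map_commutatorElement, commutatorElement_eq_one_iff_commute]
      exact Subtype.ext (mem_center_iff.1 (d b).2 (d a))
    rw [cover_perfect] at this
    exact this (mem_top x)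
  have hγ1 : γ = 1 := MulEquiv.ext fun x =>
    (inv_mul_eq_one.1 (congrArg Subtype.val (hd1 x))).symm
  rw [hγ] at hγ1
  exact (inv_mul_eq_one.1 hγ1).symm

end Cfsg.Agent.StdRu
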