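import Mathlib
import Cfsg.Agent.Rud.Maps
import Cfsg.Agent.StdRu.Data
import Cfsg.Agent.StemCert.Defs

/-! The checks on a Sylow 2-subgroup of the double cover of the Rudvalis group. -/

set_option autoImplicit false

namespace Cfsg.Agent.StdRu

open Cfsg.Agent.Rud (gmap rotI baseData)
open Cfsg.Agent.Leech.Model (pk noRep)
open Cfsg.Agent.StemCert (forceN)
open Cfsg.Agent.Compute (allBelow)

/-- a word in the two maps on the vectors -/
noncomputable def evW (w : List ℕ) (x : ℕ) : ℕ :=
  List.rec (motive := fun _ => ℕ) x (fun a _ y => forceN y fun y' => gmap a y') w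

/-- the word of a number: the bits, from the top, choose consecutive members of the series -/
def wordOf : ℕ → ℕ → ℕ → List ℕ
  | 0, _, _ => []
  | m + 1, off, e =>
    (if Nat.beq (e / 2 ^ m % 2) 1 then genW.getD off [] else []) ++ wordOf m (off + 1) (e % 2 ^ m)

/-- letters are generators -/
def lettersB : Bool :=
  genW.all (fun w => w.all fun a => Nat.blt a 2) &&
    rootW.all fun r => r.2.2.all fun a => Nat.blt a 2

/-- two words agree on the base -/
noncomputable def eqW (u v : List ℕ) : Bool := baseData.all fun b => Nat.beq (evW u b) (evW v b)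

/-- the generators are in the derived group -/
noncomputable def oddB : Bool :=
  eqW (List.replicate 7 0) [] && eqW (List.replicate 7 [0, 0, 0, 0, 0, 1]).flatten []

/-- the last member of the series is the central involution -/
noncomputable def negB : Bool :=
  baseData.all fun b => Nat.beq (evW (genW.getD 14 []) b) (rotI (rotI b))

/-- a recorded relation -/
def rel (k i : ℕ) : ℕ := (relTab.getD k []).getD (i - k) 0

/-- the series is polycyclic -/
noncomputable def relB (k : ℕ) : Bool :=
  Nat.blt (rel k k) (2 ^ (14 - k)) &&
    eqW (genW.getD k [] ++ genW.getD k []) (wordOf (14 - k) (k + 1) (rel k k)) &&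
    (List.range (14 - k)).all fun j => Nat.blt (rel k (k + 1 + j)) (2 ^ (14 - k)) &&
      eqW (genW.getD k [] ++ genW.getD (k + 1 + j) [])
        (wordOf (14 - k) (k + 1) (rel k (k + 1 + j)) ++ genW.getD k [])

/-- a vector of the small action -/
def pt (x : ℕ) : ℕ := ptsL.getD x 0

/-- the vectors of the small action are different -/
def ptsB : Bool := Nat.beq ptsL.length 96 && (ptsL.all fun p => Nat.blt p 16240) && noRep 0 ptsL

/-- the packed permutation of the upper half -/
def hCode (i : ℕ) : ℕ := (hTab.getD (i / 16) []).getD (i % 16) 0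

/-- the packed permutation of the lower half -/
def lCode (i : ℕ) : ℕ := (lTab.getD (i / 16) []).getD (i % 16) 0

/-- the small action -/
def pf (e x : ℕ) : ℕ := pk 7 (hCode (e / 128)) (pk 7 (lCode (e % 128)) x)

/-- the small action with the two codes evaluated -/
noncomputable def withPf (e : ℕ) (f : (ℕ → ℕ) → Bool) : Bool :=
  forceN (hCode (e / 128)) fun ch => forceN (lCode (e % 128)) fun cl =>
    f fun x => forceN (pk 7 cl x) fun y => pk 7 ch y

/-- the action of a member of the series -/
noncomputable def smallB (k : ℕ) : Bool :=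
  allBelow 96 fun x => Nat.blt (pf (2 ^ (14 - k)) x) 96 &&
    Nat.beq (evW (genW.getD k []) (pt x)) (pt (pf (2 ^ (14 - k)) x))

/-- the upper table multiplies out -/
noncomputable def hStepB (m : ℕ) : Bool :=
  allBelow (2 ^ m) fun r => forceN (hCode (2 ^ m + r)) fun c => forceN (hCode (2 ^ m)) fun g =>
    forceN (hCode r) fun d => allBelow 96 fun x => Nat.beq (pk 7 c x) (pk 7 g (pk 7 d x))

/-- the lower table multiplies out -/
noncomputable def lStepB (m : ℕ) : Bool :=
  allBelow (2 ^ m) fun r => forceN (lCode (2 ^ m + r)) fun c => forceN (lCode (2 ^ m)) fun g =>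
    forceN (lCode r) fun d => allBelow 96 fun x => Nat.beq (pk 7 c x) (pk 7 g (pk 7 d x))

/-- the tables start with the identity -/
noncomputable def idB : Bool :=
  allBelow 96 fun x => Nat.beq (pk 7 (hCode 0) x) x && Nat.beq (pk 7 (lCode 0) x) x

/-- the square has a given action -/
noncomputable def sqIsB (e v : ℕ) : Bool :=
  withPf e fun f => withPf v fun g => allBelow 96 fun x => Nat.beq (f (f x)) (g x)

/-- the action is faithful, and no fourth power is the central involution -/
noncomputable def faithB (e : ℕ) : Bool :=
  (Nat.beq e 0 || withPf e fun f => !(allBelow 96 fun x => Nat.beq (f x) x)) &&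
    withPf e fun f => withPf 1 fun g => !(allBelow 96 fun x => Nat.beq (f (f (f (f x)))) (g x))

/-- two elements commute -/
noncomputable def commB (e d : ℕ) : Bool :=
  withPf e fun f => withPf d fun g => allBelow 96 fun x => Nat.beq (f (g x)) (g (f x))

/-- the centre has order four -/
noncomputable def cenB (e : ℕ) : Bool :=
  if Nat.blt e 4 then allBelow 15 fun k => commB e (2 ^ k)
  else !(allBelow 15 fun k => commB e (2 ^ k))

/-- a node -/
def node (i : ℕ) : ℕ := nodes.getD i 0

/-- the element of a node -/
def nElem (i : ℕ) : ℕ := node i % 32768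

/-- the parent of a node -/
def nPar (i : ℕ) : ℕ := node i / 32768 % 32768

/-- the conjugating member of a node -/
def nGen (i : ℕ) : ℕ := node i / 1073741824

/-- a node is a conjugate of an earlier one, a central element or a recorded root -/
noncomputable def nodeB (i : ℕ) : Bool :=
  Nat.blt (nElem i) 32768 &&
    if Nat.blt (nGen i) 15 then
      Nat.blt (nPar i) i &&
        withPf (nElem i) fun f => withPf (nElem (nPar i)) fun h =>
          withPf (2 ^ (14 - nGen i)) fun g => allBelow 96 fun x => Nat.beq (f (g x)) (g (h x))
    else Nat.blt (nElem i) 4 || rootW.any fun r => Nat.beq r.1 (nElem i)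

/-- an involution is a node -/
noncomputable def invB (e : ℕ) : Bool :=
  !(sqIsB e 0) || Nat.beq e 0 ||
    forceN (pk 10 nodeIdx e) fun i => Nat.blt i 991 && Nat.beq (nElem i) e

/-- a root is moved to the centre -/
noncomputable def rootB : Bool :=
  rootW.all fun r => Nat.blt r.1 32768 && Nat.blt r.2.1 4 &&
    eqW (r.2.2 ++ wordOf 15 0 r.1) (wordOf 15 0 r.2.1 ++ r.2.2)

/-- the number of square roots in an interval -/
noncomputable def cntSq (v lo len : ℕ) : ℕ :=
  Nat.rec (motive := fun _ => ℕ) 0
    (fun j c => forceN c fun c' => if sqIsB (lo + j) v then c' + 1 else c') len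

end Cfsg.Agent.StdRu
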