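import Mathlib
import Cfsg.Agent.StdRu.Defs
import Cfsg.Agent.Rud.Order

/-! The checks over the elements of the Sylow 2-subgroup: the centre. -/

set_option autoImplicit false
set_option maxRecDepth 100000
set_option maxHeartbeats 0
set_option Elab.async false

namespace Cfsg.Agent.StdRu

open Cfsg.Agent.Rud (allFrom)

theorem cen_at0 : allFrom cenB 0 4096 = true := by decide +kernel
theorem cen_at1 : allFrom cenB 4096 4096 = true := by decide +kernel
theorem cen_at2 : allFrom cenB 8192 4096 = true := by decide +kernel
theorem cen_at3 : allFrom cenB 12288 4096 = true := by decide +kernel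
theorem cen_at4 : allFrom cenB 16384 4096 = true := by decide +kernel
theorem cen_at5 : allFrom cenB 20480 4096 = true := by decide +kernel
theorem cen_at6 : allFrom cenB 24576 4096 = true := by decide +kernel
theorem cen_at7 : allFrom cenB 28672 4096 = true := by decide +kernel

end Cfsg.Agent.StdRu
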