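import Mathlib
import Cfsg.Agent.StdRu.Defs
import Cfsg.Agent.Rud.Order

/-! The checks over the elements of the Sylow 2-subgroup: numbers of square roots. -/

set_option autoImplicit false
set_option maxRecDepth 100000
set_option maxHeartbeats 0
set_option Elab.async false

namespace Cfsg.Agent.StdRu

open Cfsg.Agent.Rud (allFrom)

theorem cnt1_at0 : cntSq 1 0 2048 = 0 := by decide +kernel
theorem cnt1_at1 : cntSq 1 2048 2048 = 0 := by decide +kernel
theorem cnt1_at2 : cntSq 1 4096 2048 = 0 := by decide +kernel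
theorem cnt1_at3 : cntSq 1 6144 2048 = 128 := by decide +kernel
theorem cnt1_at4 : cntSq 1 8192 2048 = 0 := by decide +kernel
theorem cnt1_at5 : cntSq 1 10240 2048 = 0 := by decide +kernel
theorem cnt1_at6 : cntSq 1 12288 2048 = 0 := by decide +kernel
theorem cnt1_at7 : cntSq 1 14336 2048 = 0 := by decide +kernel
theorem cnt1_at8 : cntSq 1 16384 2048 = 0 := by decide +kernel
theorem cnt1_at9 : cntSq 1 18432 2048 = 128 := by decide +kernel
theorem cnt1_at10 : cntSq 1 20480 2048 = 128 := by decide +kernel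
theorem cnt1_at11 : cntSq 1 22528 2048 = 0 := by decide +kernel
theorem cnt1_at12 : cntSq 1 24576 2048 = 0 := by decide +kernel
theorem cnt1_at13 : cntSq 1 26624 2048 = 0 := by decide +kernel
theorem cnt1_at14 : cntSq 1 28672 2048 = 0 := by decide +kernel
theorem cnt1_at15 : cntSq 1 30720 2048 = 0 := by decide +kernel
theorem cnt2_at0 : cntSq 2 0 2048 = 352 := by decide +kernel
theorem cnt2_at1 : cntSq 2 2048 2048 = 256 := by decide +kernel
theorem cnt2_at2 : cntSq 2 4096 2048 = 0 := by decide +kernel
theorem cnt2_at3 : cntSq 2 6144 2048 = 0 := by decide +kernel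
theorem cnt2_at4 : cntSq 2 8192 2048 = 0 := by decide +kernel
theorem cnt2_at5 : cntSq 2 10240 2048 = 0 := by decide +kernel
theorem cnt2_at6 : cntSq 2 12288 2048 = 0 := by decide +kernel
theorem cnt2_at7 : cntSq 2 14336 2048 = 0 := by decide +kernel
theorem cnt2_at8 : cntSq 2 16384 2048 = 0 := by decide +kernel
theorem cnt2_at9 : cntSq 2 18432 2048 = 0 := by decide +kernel
theorem cnt2_at10 : cntSq 2 20480 2048 = 0 := by decide +kernel
theorem cnt2_at11 : cntSq 2 22528 2048 = 0 := by decide +kernel
theorem cnt2_at12 : cntSq 2 24576 2048 = 0 := by decide +kernel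
theorem cnt2_at13 : cntSq 2 26624 2048 = 0 := by decide +kernel
theorem cnt2_at14 : cntSq 2 28672 2048 = 0 := by decide +kernel
theorem cnt2_at15 : cntSq 2 30720 2048 = 0 := by decide +kernel
theorem cnt3_at0 : cntSq 3 0 2048 = 64 := by decide +kernel
theorem cnt3_at1 : cntSq 3 2048 2048 = 0 := by decide +kernel
theorem cnt3_at2 : cntSq 3 4096 2048 = 0 := by decide +kernel
theorem cnt3_at3 : cntSq 3 6144 2048 = 64 := by decide +kernel
theorem cnt3_at4 : cntSq 3 8192 2048 = 0 := by decide +kernel
theorem cnt3_at5 : cntSq 3 10240 2048 = 0 := by decide +kernel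
theorem cnt3_at6 : cntSq 3 12288 2048 = 0 := by decide +kernel
theorem cnt3_at7 : cntSq 3 14336 2048 = 0 := by decide +kernel
theorem cnt3_at8 : cntSq 3 16384 2048 = 0 := by decide +kernel
theorem cnt3_at9 : cntSq 3 18432 2048 = 64 := by decide +kernel
theorem cnt3_at10 : cntSq 3 20480 2048 = 64 := by decide +kernel
theorem cnt3_at11 : cntSq 3 22528 2048 = 0 := by decide +kernel
theorem cnt3_at12 : cntSq 3 24576 2048 = 0 := by decide +kernel
theorem cnt3_at13 : cntSq 3 26624 2048 = 0 := by decide +kernel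
theorem cnt3_at14 : cntSq 3 28672 2048 = 0 := by decide +kernel
theorem cnt3_at15 : cntSq 3 30720 2048 = 0 := by decide +kernel

end Cfsg.Agent.StdRu
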