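import Mathlib
import Cfsg.Agent.StdRu.Defs
import Cfsg.Agent.Rud.Order

/-! The checks over the elements of the Sylow 2-subgroup: faithfulness and fourth powers. -/

set_option autoImplicit false
set_option maxRecDepth 100000
set_option maxHeartbeats 0
set_option Elab.async false

namespace Cfsg.Agent.StdRu

open Cfsg.Agent.Rud (allFrom)

theorem faith_at0 : allFrom faithB 0 4096 = true := by decide +kernel
theorem faith_at1 : allFrom faithB 4096 4096 = true := by decide +kernel
theorem faith_at2 : allFrom faithB 8192 4096 = true := by decide +kernel
theorem faith_at3 : allFrom faithB 12288 4096 = true := by decide +kernel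
theorem faith_at4 : allFrom faithB 16384 4096 = true := by decide +kernel
theorem faith_at5 : allFrom faithB 20480 4096 = true := by decide +kernel
theorem faith_at6 : allFrom faithB 24576 4096 = true := by decide +kernel
theorem faith_at7 : allFrom faithB 28672 4096 = true := by decide +kernel

end Cfsg.Agent.StdRu
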