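import Mathlib
import Cfsg.Agent.StdRu.Defs
import Cfsg.Agent.Rud.Order

/-! The kernel checks. -/

set_option autoImplicit false
set_option maxRecDepth 100000
set_option maxHeartbeats 0
set_option Elab.async false

namespace Cfsg.Agent.StdRu

open Cfsg.Agent.Rud (allFrom)

theorem letters_ok : lettersB = true := by decide +kernel
theorem odd_ok : oddB = true := by decide +kernel
theorem neg_ok : negB = true := by decide +kernel
theorem rel_ok : allFrom relB 0 15 = true := by decide +kernel
theorem pts_ok : ptsB = true := by decide +kernel
theorem small_ok : allFrom smallB 0 15 = true := by decide +kernel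
theorem hStep_ok : allFrom hStepB 0 8 = true := by decide +kernel
theorem lStep_ok : allFrom lStepB 0 7 = true := by decide +kernel
theorem id_ok : idB = true := by decide +kernel
theorem root_ok : rootB = true := by decide +kernel
theorem node_ok : allFrom nodeB 0 991 = true := by decide +kernel

end Cfsg.Agent.StdRu
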