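import Mathlib
import Cfsg.Agent.Rud.Mult.Main
import Cfsg.Agent.StdRu.Checks

/-! The double cover of the group of the lines, and its elements given by words in the two maps. -/

set_option autoImplicit false

namespace Cfsg.Agent.StdRu

open Cfsg.Agent.Rud
open Cfsg.Agent.StemCert (forceN_eq)

/-- The double cover of the Rudvalis group. -/
abbrev Mg : Type := ↥(commutator ↥Kgrp)

/-- The two maps. -/
noncomputable def mk01 (a : ℕ) : ↥Kgrp :=
  if a = 0 then ⟨gperm genOK0, gperm_mem _⟩ else ⟨gperm genOK1, gperm_mem _⟩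

/-- A word in the two maps. -/
noncomputable def wk (w : List ℕ) : ↥Kgrp := (w.map mk01).prod

theorem wk_append (u v : List ℕ) : wk (u ++ v) = wk u * wk v := by
  simp [wk, List.map_append, List.prod_append]

theorem wk_apply : ∀ (w : List ℕ), (∀ a ∈ w, a < 2) → ∀ i : Fin 16240,
    ((wk w : Equiv.Perm (Fin 16240)) i : ℕ) = evW w i
  | [], _, i => rfl
  | a :: w, h, i => by
    have ih := wk_apply w (fun b hb => h b (List.mem_cons_of_mem _ hb)) i
    have ha : a < 2 := h a List.mem_cons_self
    show _ = StemCert.forceN (evW w i) fun y' => gmap a y'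
    rw [forceN_eq, wk, List.map_cons, List.prod_cons, Subgroup.coe_mul, Equiv.Perm.mul_apply, ← wk]
    obtain rfl | rfl : a = 0 ∨ a = 1 := by omega
    · rw [mk01, if_pos rfl, gperm_apply, ih]
    · rw [mk01, if_neg one_ne_zero, gperm_apply, ih]

theorem eq_of_eqW {u v : List ℕ} (hu : ∀ a ∈ u, a < 2) (hv : ∀ a ∈ v, a < 2)
    (h : eqW u v = true) : wk u = wk v :=
  Mult.eq_of_base fun i hi => Fin.ext (by
    simp only [eqW, List.all_eq_true, Nat.beq_eq] at h
    rw [wk_apply u hu, wk_apply v hv, h _ hi])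

theorem card_Mg : Nat.card Mg = 291852288000 := by
  have h := Subgroup.card_mul_index Mult.cover.ker
  rw [Mult.card_cover_ker, Subgroup.index_ker, MonoidHom.range_eq_top.2 Mult.cover_stem.1,
    Subgroup.card_top, Rud.card_Hgrp] at h
  exact h.symm

theorem index_le : (commutator ↥Kgrp).index ≤ 2 := by
  have h := Subgroup.card_mul_index (commutator ↥Kgrp)
  have h2 := card_Kgrp_le
  rw [show Nat.card ↥(commutator ↥Kgrp) = 291852288000 from card_Mg] at h
  generalize (commutator ↥Kgrp).index = i, Nat.card ↥Kgrp = c at h h2 ⊢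
  omega

theorem mem_of_pow_seven {x : ↥Kgrp} (h : x ^ 7 ∈ commutator ↥Kgrp) : x ∈ commutator ↥Kgrp := by
  have h2 : x ^ (commutator ↥Kgrp).index ∈ commutator ↥Kgrp := Subgroup.pow_index_mem _ x
  have hpos : 0 < (commutator ↥Kgrp).index := Nat.pos_of_ne_zero Subgroup.index_ne_zero_of_finite
  obtain e | e : (commutator ↥Kgrp).index = 1 ∨ (commutator ↥Kgrp).index = 2 := by
    have := index_le; omega
  · rw [e, pow_one] at h2; exact h2
  · rw [e] at h2
    have h6 := pow_mem h2 3
    rw [← pow_mul] at h6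
    rw [show x = (x ^ (2 * 3))⁻¹ * x ^ 7 by group]
    exact mul_mem (inv_mem h6) h

theorem mk01_mem (a : ℕ) : mk01 a ∈ commutator ↥Kgrp := by
  have h := odd_ok
  simp only [oddB, Bool.and_eq_true] at h
  have e0 : wk (List.replicate 7 0) = 1 := eq_of_eqW (by simp) (by simp) h.1
  have e1 : wk (List.replicate 7 [0, 0, 0, 0, 0, 1]).flatten = 1 :=
    eq_of_eqW (by decide) (by simp) h.2
  have h0 : mk01 0 ∈ commutator ↥Kgrp := by
    refine mem_of_pow_seven ?_
    rw [wk, List.map_replicate, List.prod_replicate] at e0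
    rw [e0]; exact one_mem _
  have h1 : wk [0, 0, 0, 0, 0, 1] ∈ commutator ↥Kgrp := by
    refine mem_of_pow_seven ?_
    rw [wk, List.map_flatten, List.map_replicate, List.prod_flatten, List.map_replicate,
      List.prod_replicate] at e1
    rw [show wk [0, 0, 0, 0, 0, 1] = (List.map mk01 [0, 0, 0, 0, 0, 1]).prod from rfl, e1]
    exact one_mem _
  rw [show [0, 0, 0, 0, 0, 1] = List.replicate 5 0 ++ [1] from rfl, wk_append] at h1
  have h5 : wk (List.replicate 5 0) ∈ commutator ↥Kgrp := by
    rw [wk, List.map_replicate, List.prod_replicate]; exact pow_mem h0 5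
  have h1' := mul_mem (inv_mem h5) h1
  rw [inv_mul_cancel_left] at h1'
  by_cases ha : a = 0
  · rw [ha]; exact h0
  · rw [show mk01 a = mk01 1 by simp [mk01, ha]]
    simpa [wk] using h1'

theorem wk_mem (w : List ℕ) : wk w ∈ commutator ↥Kgrp :=
  list_prod_mem fun y hy => by
    obtain ⟨a, -, rfl⟩ := List.mem_map.1 hy
    exact mk01_mem a

/-- A word, as an element of the double cover. -/
noncomputable def wm (w : List ℕ) : Mg := ⟨wk w, wk_mem w⟩

theorem wm_append (u v : List ℕ) : wm (u ++ v) = wm u * wm v := Subtype.ext (wk_append u v)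

theorem wm_nil : wm [] = 1 := rfl

/-- The action of the double cover on the numbers of the vectors. -/
noncomputable def app (g : Mg) (n : ℕ) : ℕ :=
  if h : n < 16240 then ((((g : ↥Kgrp) : Equiv.Perm (Fin 16240)) ⟨n, h⟩ : Fin 16240) : ℕ) else n

theorem app_mul (g h : Mg) (n : ℕ) : app (g * h) n = app g (app h n) := by
  unfold app
  split_ifs with h1 h2
  · rfl
  · exact absurd (Fin.isLt _) h2
  · rfl

theorem app_one (n : ℕ) : app 1 n = n := by unfold app; split_ifs <;> rfl

theorem app_inv_app (g : Mg) (n : ℕ) : app g⁻¹ (app g n) = n := by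
  rw [← app_mul, inv_mul_cancel, app_one]

theorem app_wm {w : List ℕ} (hw : ∀ a ∈ w, a < 2) {n : ℕ} (hn : n < 16240) :
    app (wm w) n = evW w n := by
  rw [app, dif_pos hn]; exact wk_apply w hw ⟨n, hn⟩

theorem wm_eq {u v : List ℕ} (hu : ∀ a ∈ u, a < 2) (hv : ∀ a ∈ v, a < 2) (h : eqW u v = true) :
    wm u = wm v := Subtype.ext (eq_of_eqW hu hv h)

end Cfsg.Agent.StdRu
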