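import Mathlib
import Cfsg.Agent.StdRu.Words

/-! The 2-subgroup given by the series, and its action on 96 vectors. -/

set_option autoImplicit false
set_option maxRecDepth 100000

namespace Cfsg.Agent.StdRu

open Cfsg.Agent.Rud (allFrom_spec)
open Cfsg.Agent.Leech.Model (pk noRep_spec)

theorem genW_lt (k : ℕ) : ∀ a ∈ genW.getD k [], a < 2 := by
  intro a ha
  rcases lt_or_ge k genW.length with h | h
  · rw [List.getD_eq_getElem _ _ h] at ha
    have hl := letters_ok
    simp only [lettersB, Bool.and_eq_true, List.all_eq_true, Nat.blt_eq] at hl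
    exact hl.1 _ (List.getElem_mem h) a ha
  · simp [List.getD_eq_getElem?_getD, List.getElem?_eq_none h] at ha

theorem wordOf_lt : ∀ m off e, ∀ a ∈ wordOf m off e, a < 2
  | 0, _, _, a, ha => by simp [wordOf] at ha
  | m + 1, off, e, a, ha => by
    rw [wordOf, List.mem_append] at ha
    rcases ha with ha | ha
    · split_ifs at ha
      · exact genW_lt off a ha
      · simp at ha
    · exact wordOf_lt m _ _ a ha

theorem wordOf_zero : ∀ m off, wordOf m off 0 = []
  | 0, _ => rfl
  | m + 1, off => by simp [wordOf, wordOf_zero m]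

theorem wordOf_add : ∀ m n off e, e < 2 ^ (m + n) →
    wordOf (m + n) off e = wordOf m off (e / 2 ^ n) ++ wordOf n (off + m) (e % 2 ^ n)
  | 0, n, off, e, he => by
    rw [zero_add] at he
    rw [zero_add, add_zero, Nat.mod_eq_of_lt he]
    rfl
  | m + 1, n, off, e, he => by
    have h := wordOf_add m n (off + 1) (e % 2 ^ (m + n)) (Nat.mod_lt _ (Nat.two_pow_pos _))
    rw [show m + 1 + n = (m + n) + 1 by ring, wordOf, wordOf, h, List.append_assoc,
      show e / 2 ^ n / 2 ^ m = e / 2 ^ (m + n) by rw [Nat.div_div_eq_div_mul, ← pow_add, add_comm],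
      show e % 2 ^ (m + n) / 2 ^ n = e / 2 ^ n % 2 ^ m by
        rw [show 2 ^ (m + n) = 2 ^ n * 2 ^ m by rw [← pow_add, add_comm], Nat.mod_mul_right_div_self],
      show e % 2 ^ (m + n) % 2 ^ n = e % 2 ^ n from
        Nat.mod_mod_of_dvd _ (pow_dvd_pow 2 (Nat.le_add_left n m)),
      show off + 1 + m = off + (m + 1) by ring]

/-- A member of the series. -/
noncomputable def gg (k : ℕ) : Mg := wm (genW.getD k [])

/-- The element of a number among the last members of the series. -/
noncomputable def sy (m e : ℕ) : Mg := wm (wordOf m (15 - m) e)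

theorem sy_zero_left (e : ℕ) : sy 0 e = 1 := rfl

theorem sy_zero (m : ℕ) : sy m 0 = 1 := by rw [sy, wordOf_zero]; rfl

theorem sy_lo {m e : ℕ} (hm : m < 15) (he : e < 2 ^ m) : sy (m + 1) e = sy m e := by
  rw [sy, sy, wordOf, Nat.div_eq_of_lt he, Nat.mod_eq_of_lt he,
    show 15 - (m + 1) + 1 = 15 - m by omega]
  rfl

theorem sy_hi {m r : ℕ} (hm : m < 15) (hr : r < 2 ^ m) :
    sy (m + 1) (2 ^ m + r) = gg (14 - m) * sy m r := by
  have e1 : (2 ^ m + r) / 2 ^ m = 1 := by
    rw [Nat.add_div_left _ (Nat.two_pow_pos m), Nat.div_eq_of_lt hr]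
  have e2 : (2 ^ m + r) % 2 ^ m = r := by
    rw [Nat.add_mod_left, Nat.mod_eq_of_lt hr]
  rw [sy, sy, wordOf, e1, e2, show 15 - (m + 1) + 1 = 15 - m by omega, wm_append,
    show 15 - (m + 1) = 14 - m by omega]
  rfl

theorem split_top {m e : ℕ} (he : e < 2 ^ (m + 1)) :
    e < 2 ^ m ∨ ∃ r < 2 ^ m, e = 2 ^ m + r := by
  rcases lt_or_ge e (2 ^ m) with h | h
  · exact Or.inl h
  · exact Or.inr ⟨e - 2 ^ m, by rw [pow_succ] at he; omega, by omega⟩

theorem sy_pad {m e : ℕ} (he : e < 2 ^ m) : ∀ {n}, m ≤ n → n ≤ 15 → sy n e = sy m e := by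
  intro n hmn
  induction hmn with
  | refl => intro _; rfl
  | @step n h ih =>
    intro hn
    rw [sy_lo (by omega) (lt_of_lt_of_le he (Nat.pow_le_pow_right (by norm_num) h)), ih (by omega)]

theorem gg_eq_sy {p m : ℕ} (hp : p < m) (hm : m ≤ 15) : sy m (2 ^ p) = gg (14 - p) := by
  rw [sy_pad (Nat.pow_lt_pow_right (by norm_num) p.lt_succ_self) hp hm]
  have := sy_hi (m := p) (r := 0) (by omega) (Nat.two_pow_pos p)
  rwa [add_zero, sy_zero, mul_one] at this

theorem sy_mem {L : Subgroup Mg} : ∀ {m : ℕ}, m ≤ 15 → (∀ j, 15 - m ≤ j → j < 15 → gg j ∈ L) →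
    ∀ r < 2 ^ m, sy m r ∈ L := by
  intro m
  induction m with
  | zero => intro _ _ r _; rw [sy_zero_left]; exact one_mem L
  | succ m ih =>
    intro hm h r hr
    have ih' := ih (by omega) fun j hj hj' => h j (by omega) hj'
    rcases split_top hr with hr' | ⟨r', hr', rfl⟩
    · rw [sy_lo (by omega) hr']; exact ih' r hr'
    · rw [sy_hi (by omega) hr']
      exact mul_mem (h _ (by omega) (by omega)) (ih' r' hr')

theorem rel_facts {k : ℕ} (hk : k < 15) :
    (∃ r < 2 ^ (14 - k), gg k * gg k = sy (14 - k) r) ∧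
      ∀ j, k < j → j < 15 → ∃ r < 2 ^ (14 - k), gg k * gg j = sy (14 - k) r * gg k := by
  have h := allFrom_spec rel_ok (Nat.zero_le k) (by omega)
  simp only [relB, Bool.and_eq_true, Nat.blt_eq, List.all_eq_true, List.mem_range] at h
  obtain ⟨⟨h1, h2⟩, h3⟩ := h
  have app2 : ∀ {u v : List ℕ}, (∀ a ∈ u, a < 2) → (∀ a ∈ v, a < 2) → ∀ a ∈ u ++ v, a < 2 :=
    fun hu hv a ha => (List.mem_append.1 ha).elim (hu a) (hv a)
  have hoff : k + 1 = 15 - (14 - k) := by omega
  refine ⟨⟨_, h1, ?_⟩, fun j hj hj' => ?_⟩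
  · have := wm_eq (app2 (genW_lt k) (genW_lt k)) (wordOf_lt _ _ _) h2
    rw [wm_append, hoff] at this
    exact this
  · obtain ⟨h4, h5⟩ := h3 (j - (k + 1)) (by omega)
    rw [show k + 1 + (j - (k + 1)) = j by omega] at h4 h5
    refine ⟨_, h4, ?_⟩
    have := wm_eq (app2 (genW_lt k) (genW_lt j)) (app2 (wordOf_lt _ _ _) (genW_lt k)) h5
    rw [wm_append, wm_append, hoff] at this
    exact this

theorem exists_series : ∀ m ≤ 15, ∃ H : Subgroup Mg, ∀ x, x ∈ H ↔ ∃ r < 2 ^ m, sy m r = x := by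
  intro m
  induction m with
  | zero =>
    intro _
    refine ⟨⊥, fun x => ?_⟩
    rw [Subgroup.mem_bot]
    exact ⟨fun h => ⟨0, by norm_num, by rw [sy_zero_left, h]⟩,
      fun ⟨r, _, e⟩ => e.symm.trans (sy_zero_left r)⟩
  | succ m ih =>
    intro hm
    obtain ⟨H, hH⟩ := ih (by omega)
    obtain ⟨g, hg⟩ : ∃ g, g = gg (14 - m) := ⟨_, rfl⟩
    have hr := rel_facts (k := 14 - m) (by omega)
    rw [show 14 - (14 - m) = m by omega, ← hg] at hr
    obtain ⟨⟨r0, hr0, e0⟩, hcj⟩ := hr
    have hgg : g * g ∈ H := (hH _).2 ⟨r0, hr0, e0.symm⟩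
    have hgen : ∀ j, 15 - m ≤ j → j < 15 → gg j ∈ H := fun j hj hj' =>
      (hH _).2 ⟨2 ^ (14 - j), Nat.pow_lt_pow_right (by norm_num) (by omega), by
        rw [gg_eq_sy (by omega) (by omega), show 14 - (14 - j) = j by omega]⟩
    have hconj : ∀ x ∈ H, g * x * g⁻¹ ∈ H := by
      intro x hx
      obtain ⟨r, hr, rfl⟩ := (hH x).1 hx
      have := sy_mem (L := H.comap (MulAut.conj g).toMonoidHom) (m := m) (by omega)
        (fun j hj hj' => by
          obtain ⟨r', hr', e⟩ := hcj j (by omega) hj'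
          show g * gg j * g⁻¹ ∈ H
          rw [e, mul_inv_cancel_right]
          exact (hH _).2 ⟨r', hr', rfl⟩) r hr
      exact this
    have hconj' : ∀ x ∈ H, g⁻¹ * x * g ∈ H := fun x hx => by
      rw [show g⁻¹ * x * g = (g * g)⁻¹ * (g * x * g⁻¹) * (g * g) by group]
      exact mul_mem (mul_mem (inv_mem hgg) (hconj x hx)) hgg
    let T : Subgroup Mg :=
      { carrier := {x | x ∈ H ∨ g⁻¹ * x ∈ H}
        one_mem' := Or.inl (one_mem H)
        mul_mem' := by
          rintro x y (hx | hx) (hy | hy)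
          · exact Or.inl (mul_mem hx hy)
          · refine Or.inr ?_
            rw [show g⁻¹ * (x * y) = g⁻¹ * x * g * (g⁻¹ * y) by group]
            exact mul_mem (hconj' x hx) hy
          · refine Or.inr ?_
            rw [← mul_assoc]
            exact mul_mem hx hy
          · refine Or.inl ?_
            rw [show x * y = g * (g⁻¹ * x) * g⁻¹ * (g * g) * (g⁻¹ * y) by group]
            exact mul_mem (mul_mem (hconj _ hx) hgg) hy
        inv_mem' := by
          rintro x (hx | hx)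
          · exact Or.inl (inv_mem hx)
          · refine Or.inr ?_
            rw [show g⁻¹ * x⁻¹ = g⁻¹ * (g⁻¹ * x)⁻¹ * g * (g * g)⁻¹ by group]
            exact mul_mem (hconj' _ (inv_mem hx)) (inv_mem hgg) }
    refine ⟨T, fun x => ⟨?_, ?_⟩⟩
    · rintro (hx | hx)
      · obtain ⟨r, hr, rfl⟩ := (hH x).1 hx
        exact ⟨r, lt_of_lt_of_le hr (Nat.pow_le_pow_right (by norm_num) m.le_succ),
          sy_lo (by omega) hr⟩
      · obtain ⟨r, hr, e⟩ := (hH _).1 hx
        refine ⟨2 ^ m + r, by rw [pow_succ]; omega, ?_⟩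
        rw [sy_hi (by omega) hr, ← hg, e, mul_inv_cancel_left]
    · rintro ⟨r, hr, rfl⟩
      rcases split_top hr with hr' | ⟨r', hr', rfl⟩
      · rw [sy_lo (by omega) hr']
        exact Or.inl ((hH _).2 ⟨r, hr', rfl⟩)
      · refine Or.inr ?_
        rw [sy_hi (by omega) hr', ← hg, inv_mul_cancel_left]
        exact (hH _).2 ⟨r', hr', rfl⟩

/-- `g` acts on the 96 vectors as `f`. -/
def Acts (g : Mg) (f : ℕ → ℕ) : Prop := ∀ x < 96, f x < 96 ∧ app g (pt x) = pt (f x)

theorem Acts.mul {g h : Mg} {u v : ℕ → ℕ} (hg : Acts g u) (hh : Acts h v) :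
    Acts (g * h) fun x => u (v x) := fun x hx => by
  obtain ⟨h1, h2⟩ := hh x hx
  obtain ⟨h3, h4⟩ := hg _ h1
  exact ⟨h3, by rw [app_mul, h2, h4]⟩

theorem Acts.congr {g : Mg} {u v : ℕ → ℕ} (hg : Acts g u) (h : ∀ x < 96, u x = v x) : Acts g v :=
  fun x hx => h x hx ▸ hg x hx

theorem pt_lt {x : ℕ} (hx : x < 96) : pt x < 16240 := by
  have h := pts_ok
  simp only [ptsB, Bool.and_eq_true, Nat.beq_eq, List.all_eq_true, Nat.blt_eq] at h
  rw [pt, List.getD_eq_getElem _ _ (h.1.1.symm ▸ hx)]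
  exact h.1.2 _ (List.getElem_mem _)

theorem pt_inj {x y : ℕ} (hx : x < 96) (hy : y < 96) (e : pt x = pt y) : x = y := by
  have h := pts_ok
  simp only [ptsB, Bool.and_eq_true, Nat.beq_eq] at h
  have hx' : x < ptsL.length := h.1.1.symm ▸ hx
  have hy' : y < ptsL.length := h.1.1.symm ▸ hy
  rw [pt, pt, List.getD_eq_getElem _ _ hx', List.getD_eq_getElem _ _ hy'] at e
  exact ((noRep_spec _ _ h.2).1.getElem_inj_iff).1 e

theorem acts_gg {k : ℕ} (hk : k < 15) : Acts (gg k) (pf (2 ^ (14 - k))) := fun x hx => by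
  have hs := allFrom_spec small_ok (i := k) (Nat.zero_le k) (by omega)
  rw [smallB] at hs
  have h := Compute.allBelow_eq_true.1 hs x hx
  simp only [Bool.and_eq_true, Nat.blt_eq, Nat.beq_eq] at h
  exact ⟨h.1, by rw [gg, app_wm (genW_lt k) (pt_lt hx), h.2]⟩

theorem lCode_lt : (List.range 7).all (fun m => (List.range 96).all fun x =>
    Nat.blt (pk 7 (lCode (2 ^ m)) x) 96) = true := by decide +kernel

theorem id_facts {x : ℕ} (hx : x < 96) : pk 7 (hCode 0) x = x ∧ pk 7 (lCode 0) x = x := by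
  have h := Compute.allBelow_eq_true.1 id_ok x hx
  simpa only [Bool.and_eq_true, Nat.beq_eq] using h

theorem wm_wordOf_hi {m off r : ℕ} (hr : r < 2 ^ m) :
    wm (wordOf (m + 1) off (2 ^ m + r)) = gg off * wm (wordOf m (off + 1) r) := by
  rw [wordOf, Nat.add_div_left _ (Nat.two_pow_pos m), Nat.div_eq_of_lt hr, Nat.add_mod_left,
    Nat.mod_eq_of_lt hr, wm_append]
  rfl

theorem wm_wordOf_lo {m off r : ℕ} (hr : r < 2 ^ m) :
    wm (wordOf (m + 1) off r) = wm (wordOf m (off + 1) r) := by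
  rw [wordOf, Nat.div_eq_of_lt hr, Nat.mod_eq_of_lt hr]
  rfl

theorem acts_one {u : ℕ → ℕ} (h : ∀ x < 96, u x = x) : Acts 1 u := fun x hx => by
  rw [h x hx]; exact ⟨hx, app_one _⟩

theorem acts_hi : ∀ m ≤ 8, ∀ r < 2 ^ m, Acts (wm (wordOf m (8 - m) r)) (pk 7 (hCode r)) := by
  intro m
  induction m with
  | zero =>
    intro _ r hr
    rw [show r = 0 by simpa using hr]
    exact acts_one fun x hx => (id_facts hx).1
  | succ m ih =>
    intro hm r hr
    rcases split_top hr with hr' | ⟨r', hr', rfl⟩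
    · rw [wm_wordOf_lo hr', show 8 - (m + 1) + 1 = 8 - m by omega]
      exact ih (by omega) r hr'
    · rw [wm_wordOf_hi hr', show 8 - (m + 1) + 1 = 8 - m by omega,
        show 8 - (m + 1) = 7 - m by omega]
      have htop : Acts (gg (7 - m)) (pk 7 (hCode (2 ^ m))) := by
        refine (acts_gg (show 7 - m < 15 by omega)).congr fun x hx => ?_
        rw [pf, show 14 - (7 - m) = m + 7 by omega, pow_add, show (2 : ℕ) ^ 7 = 128 by norm_num,
          Nat.mul_div_cancel _ (by norm_num), Nat.mul_mod_left, (id_facts hx).2]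
      refine (htop.mul (ih (by omega) r' hr')).congr fun x hx => ?_
      have h := allFrom_spec hStep_ok (Nat.zero_le m) (by omega)
      simp only [hStepB, StemCert.forceN_eq] at h
      have := Compute.allBelow_eq_true.1 (Compute.allBelow_eq_true.1 h r' hr') x hx
      exact (Nat.eq_of_beq_eq_true this).symm

theorem acts_lo : ∀ m ≤ 7, ∀ r < 2 ^ m, Acts (wm (wordOf m (15 - m) r)) (pk 7 (lCode r)) := by
  intro m
  induction m with
  | zero =>
    intro _ r hr
    rw [show r = 0 by simpa using hr]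
    exact acts_one fun x hx => (id_facts hx).2
  | succ m ih =>
    intro hm r hr
    rcases split_top hr with hr' | ⟨r', hr', rfl⟩
    · rw [wm_wordOf_lo hr', show 15 - (m + 1) + 1 = 15 - m by omega]
      exact ih (by omega) r hr'
    · rw [wm_wordOf_hi hr', show 15 - (m + 1) + 1 = 15 - m by omega,
        show 15 - (m + 1) = 14 - m by omega]
      have htop : Acts (gg (14 - m)) (pk 7 (lCode (2 ^ m))) := by
        refine (acts_gg (show 14 - m < 15 by omega)).congr fun x hx => ?_
        have hp : (2 : ℕ) ^ m < 128 :=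
          lt_of_lt_of_le (Nat.pow_lt_pow_right (by norm_num) (show m < 7 by omega)) (by norm_num)
        have hl := lCode_lt
        simp only [List.all_eq_true, List.mem_range, Nat.blt_eq] at hl
        rw [pf, show 14 - (14 - m) = m by omega, Nat.div_eq_of_lt hp, Nat.mod_eq_of_lt hp,
          (id_facts (hl m (by omega) x hx)).1]
      refine (htop.mul (ih (by omega) r' hr')).congr fun x hx => ?_
      have h := allFrom_spec lStep_ok (Nat.zero_le m) (by omega)
      simp only [lStepB, StemCert.forceN_eq] at h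
      have := Compute.allBelow_eq_true.1 (Compute.allBelow_eq_true.1 h r' hr') x hx
      exact (Nat.eq_of_beq_eq_true this).symm

theorem acts_sy {e : ℕ} (he : e < 32768) : Acts (sy 15 e) (pf e) := by
  have h := wordOf_add 8 7 0 e (by norm_num; omega)
  rw [show sy 15 e = wm (wordOf (8 + 7) 0 e) from rfl, h, wm_append]
  exact (acts_hi 8 le_rfl _ (by norm_num; omega)).mul
    (acts_lo 7 le_rfl _ (by norm_num; omega))

end Cfsg.Agent.StdRu
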