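import Mathlib
import Cfsg.Agent.StdRu.Series
import Cfsg.Agent.StdRu.CheckFaith
import Cfsg.Agent.StdRu.CheckInv
import Cfsg.Agent.StdRu.CheckCen
import Cfsg.Agent.StdRu.CheckCount

/-!
The facts about the Sylow 2-subgroup of the double cover of the Rudvalis group: its centre, its
involutions up to conjugation and its numbers of square roots.
-/

set_option autoImplicit false
set_option maxRecDepth 100000

namespace Cfsg.Agent.StdRu

open Cfsg.Agent.Rud (allFrom allFrom_spec)
open Cfsg.Agent.StemCert (forceN_eq)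

theorem eight {f : ℕ → Bool} (h0 : allFrom f 0 4096 = true) (h1 : allFrom f 4096 4096 = true)
    (h2 : allFrom f 8192 4096 = true) (h3 : allFrom f 12288 4096 = true)
    (h4 : allFrom f 16384 4096 = true) (h5 : allFrom f 20480 4096 = true)
    (h6 : allFrom f 24576 4096 = true) (h7 : allFrom f 28672 4096 = true) {e : ℕ} (he : e < 32768) :
    f e = true := by
  rcases lt_or_ge e 4096 with h | h
  · exact allFrom_spec h0 (Nat.zero_le _) (by omega)
  rcases lt_or_ge e 8192 with h' | h'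
  · exact allFrom_spec h1 h (by omega)
  rcases lt_or_ge e 12288 with h'' | h''
  · exact allFrom_spec h2 h' (by omega)
  rcases lt_or_ge e 16384 with k | k
  · exact allFrom_spec h3 h'' (by omega)
  rcases lt_or_ge e 20480 with k' | k'
  · exact allFrom_spec h4 k (by omega)
  rcases lt_or_ge e 24576 with k'' | k''
  · exact allFrom_spec h5 k' (by omega)
  rcases lt_or_ge e 28672 with l | l
  · exact allFrom_spec h6 k'' (by omega)
  · exact allFrom_spec h7 l (by omega)

theorem withPf_eq (e : ℕ) (f : (ℕ → ℕ) → Bool) : withPf e f = f (pf e) := by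
  simp only [withPf, forceN_eq]
  rfl

theorem pf_zero {x : ℕ} (hx : x < 96) : pf 0 x = x := by
  show Leech.Model.pk 7 (hCode (0 / 128)) (Leech.Model.pk 7 (lCode (0 % 128)) x) = x
  rw [Nat.zero_div, Nat.zero_mod, (id_facts hx).2, (id_facts hx).1]

theorem faith_fact {e : ℕ} (he : e < 32768) :
    (e ≠ 0 → ∃ x < 96, pf e x ≠ x) ∧ ∃ x < 96, pf e (pf e (pf e (pf e x))) ≠ pf 1 x := by
  have h := eight faith_at0 faith_at1 faith_at2 faith_at3 faith_at4 faith_at5 faith_at6 faith_at7 he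
  simp only [faithB, withPf_eq, Bool.and_eq_true, Bool.or_eq_true, Nat.beq_eq,
    Bool.not_eq_true', Bool.eq_false_iff, ne_eq, Compute.allBelow_eq_true, not_forall] at h
  obtain ⟨h1, x, hx, h2⟩ := h
  exact ⟨fun hne => by
    obtain ⟨y, hy, h3⟩ := h1.resolve_left hne
    exact ⟨y, hy, h3⟩, x, hx, h2⟩

theorem sy_eq_one {e : ℕ} (he : e < 32768) (h : sy 15 e = 1) : e = 0 := by
  by_contra hne
  obtain ⟨x, hx, hx'⟩ := (faith_fact he).1 hne
  obtain ⟨h1, h2⟩ := acts_sy he x hx
  rw [h, app_one] at h2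
  exact hx' (pt_inj h1 hx h2.symm)

theorem sy_inj : ∀ m ≤ 15, ∀ a < 2 ^ m, ∀ b < 2 ^ m, sy m a = sy m b → a = b := by
  intro m
  induction m with
  | zero => intro _ a ha b hb _; rw [pow_zero] at ha hb; omega
  | succ m ih =>
    intro hm a ha b hb e
    obtain ⟨H, hH⟩ := exists_series m (by omega)
    have hout : ∀ r < 2 ^ m, ∀ s < 2 ^ m, gg (14 - m) * sy m r ≠ sy m s := by
      intro r hr s hs he'
      obtain ⟨u, hu, hu'⟩ := (hH _).1 (inv_mem ((hH (gg (14 - m))).2 (by
        have hg : gg (14 - m) ∈ H := by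
          rw [eq_mul_inv_of_mul_eq he']
          exact mul_mem ((hH _).2 ⟨s, hs, rfl⟩) (inv_mem ((hH _).2 ⟨r, hr, rfl⟩))
        exact (hH _).1 hg)))
      have hlt : 2 ^ m + u < 2 ^ (m + 1) := by rw [pow_succ]; omega
      have h15 : (2 : ℕ) ^ (m + 1) ≤ 32768 :=
        le_trans (Nat.pow_le_pow_right (by norm_num) hm) (by norm_num)
      have := sy_eq_one (e := 2 ^ m + u) (by omega) (by
        rw [sy_pad hlt hm le_rfl, sy_hi (by omega) hu, hu', mul_inv_cancel])
      have := Nat.two_pow_pos m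
      omega
    rcases split_top ha with ha' | ⟨r, hr, rfl⟩ <;> rcases split_top hb with hb' | ⟨s, hs, rfl⟩
    · rw [sy_lo (by omega) ha', sy_lo (by omega) hb'] at e
      exact ih (by omega) a ha' b hb' e
    · rw [sy_lo (by omega) ha', sy_hi (by omega) hs] at e
      exact absurd e.symm (hout s hs a ha')
    · rw [sy_hi (by omega) hr, sy_lo (by omega) hb'] at e
      exact absurd e (hout r hr b hb')
    · rw [sy_hi (by omega) hr, sy_hi (by omega) hs, mul_left_cancel_iff] at e
      rw [ih (by omega) r hr s hs e]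

/-- The Sylow 2-subgroup. -/
noncomputable def S : Subgroup Mg := (exists_series 15 le_rfl).choose

theorem mem_S {x : Mg} : x ∈ S ↔ ∃ r < 32768, sy 15 r = x := by
  refine ((exists_series 15 le_rfl).choose_spec x).trans ?_
  rw [show (2 : ℕ) ^ 15 = 32768 by norm_num]

theorem sy_mem_S {e : ℕ} (he : e < 32768) : sy 15 e ∈ S := mem_S.2 ⟨e, he, rfl⟩

theorem gg_mem_S {k : ℕ} (hk : k < 15) : gg k ∈ S := by
  have h := gg_eq_sy (p := 14 - k) (m := 15) (by omega) le_rfl
  rw [show 14 - (14 - k) = k by omega] at h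
  rw [← h]
  exact sy_mem_S (lt_of_lt_of_le (Nat.pow_lt_pow_right (by norm_num) (show 14 - k < 15 by omega)) (by norm_num))

/-- The numbering of the Sylow 2-subgroup. -/
noncomputable def equivS : Fin 32768 ≃ ↥S :=
  Equiv.ofBijective (fun e => ⟨sy 15 e, sy_mem_S e.2⟩)
    ⟨fun a b h => Fin.ext (sy_inj 15 le_rfl a (lt_of_lt_of_le a.2 (by norm_num)) b
      (lt_of_lt_of_le b.2 (by norm_num))
      (congrArg Subtype.val h)), fun x => by
      obtain ⟨r, hr, e⟩ := mem_S.1 x.2
      exact ⟨⟨r, hr⟩, Subtype.ext e⟩⟩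

theorem card_S : Nat.card ↥S = 32768 := by
  rw [← Nat.card_congr equivS, Nat.card_fin]

theorem ext_S {x y : Mg} (hx : x ∈ S) (hy : y ∈ S) (h : ∀ i < 96, app x (pt i) = app y (pt i)) :
    x = y := by
  obtain ⟨e, he, e'⟩ := mem_S.1 (mul_mem (inv_mem hy) hx)
  have h0 : e = 0 := by
    by_contra hne
    obtain ⟨i, hi, hi'⟩ := (faith_fact he).1 hne
    obtain ⟨h1, h2⟩ := acts_sy he i hi
    rw [e', app_mul, h i hi, app_inv_app] at h2
    exact hi' (pt_inj h1 hi h2.symm)
  rw [h0, sy_zero] at e'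
  exact (inv_mul_eq_one.1 e'.symm).symm

theorem sq_iff {e v : ℕ} (he : e < 32768) (hv : v < 32768) :
    sqIsB e v = true ↔ sy 15 e * sy 15 e = sy 15 v := by
  simp only [sqIsB, withPf_eq, Compute.allBelow_eq_true, Nat.beq_eq]
  have hm := (acts_sy he).mul (acts_sy he)
  constructor
  · exact fun h => ext_S (mul_mem (sy_mem_S he) (sy_mem_S he)) (sy_mem_S hv) fun i hi => by
      rw [(hm i hi).2, (acts_sy hv i hi).2]
      exact congrArg pt (h i hi)
  · intro h i hi
    refine pt_inj (hm i hi).1 (acts_sy hv i hi).1 ?_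
    rw [← (hm i hi).2, ← (acts_sy hv i hi).2, h]

theorem comm_iff {e d : ℕ} (he : e < 32768) (hd : d < 32768) :
    commB e d = true ↔ sy 15 e * sy 15 d = sy 15 d * sy 15 e := by
  simp only [commB, withPf_eq, Compute.allBelow_eq_true, Nat.beq_eq]
  have h1 := (acts_sy he).mul (acts_sy hd)
  have h2 := (acts_sy hd).mul (acts_sy he)
  constructor
  · exact fun h => ext_S (mul_mem (sy_mem_S he) (sy_mem_S hd)) (mul_mem (sy_mem_S hd) (sy_mem_S he))
      fun i hi => by rw [(h1 i hi).2, (h2 i hi).2]; exact congrArg pt (h i hi)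
  · intro h i hi
    refine pt_inj (h1 i hi).1 (h2 i hi).1 ?_
    rw [← (h1 i hi).2, ← (h2 i hi).2, h]

/-- The central involution. -/
noncomputable def zc : Mg := ⟨Rud.Mult.negI, Rud.Mult.negI_mem⟩

theorem sy_one : sy 15 1 = zc := by
  rw [show (1 : ℕ) = 2 ^ 0 from rfl, gg_eq_sy (by norm_num) le_rfl]
  refine Subtype.ext (Rud.Mult.eq_of_base fun i hi => Fin.ext ?_)
  have h := neg_ok
  simp only [negB, List.all_eq_true, Nat.beq_eq] at h
  show ((wk (genW.getD 14 []) : Equiv.Perm (Fin 16240)) i : ℕ) = _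
  rw [wk_apply _ (genW_lt 14), h _ hi]
  simp [zc, Rud.Mult.negI, pow_two, Rud.iperm_apply]

theorem zc_mem : zc ∈ S := sy_one ▸ sy_mem_S (by norm_num)

theorem zc_ne : zc ≠ 1 := fun h => Rud.Mult.negI_ne (congrArg Subtype.val h)

theorem zc_center : zc ∈ Subgroup.center Mg := by
  refine Subgroup.mem_center_iff.2 fun m => Subtype.ext ?_
  have : Rud.Mult.negI ∈ Subgroup.center ↥Rud.Kgrp := Subgroup.pow_mem _
    (Subgroup.mem_center_iff.2 fun p => Subtype.ext (Equiv.ext fun a => p.2.2 a)) 2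
  exact Subgroup.mem_center_iff.1 this m

theorem zc_sq : zc * zc = 1 := by
  rw [← sy_one, ← sy_zero 15]
  exact (sq_iff (by norm_num) (by norm_num)).1 (by decide +kernel)

theorem no_fourth {x : Mg} (hx : x ∈ S) : x * x * (x * x) ≠ zc := by
  obtain ⟨e, he, rfl⟩ := mem_S.1 hx
  obtain ⟨i, hi, hne⟩ := (faith_fact he).2
  intro h
  have hm := ((acts_sy he).mul (acts_sy he)).mul ((acts_sy he).mul (acts_sy he))
  refine hne (pt_inj (hm i hi).1 (acts_sy (e := 1) (by norm_num) i hi).1 ?_)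
  rw [← (hm i hi).2, ← (acts_sy (e := 1) (by norm_num) i hi).2, h, sy_one]

theorem central_small {v : ℕ} (hv : v < 4) {x : Mg} (hx : x ∈ S) : sy 15 v * x = x * sy 15 v := by
  obtain ⟨e, he, rfl⟩ := mem_S.1 hx
  have h := eight cen_at0 cen_at1 cen_at2 cen_at3 cen_at4 cen_at5 cen_at6 cen_at7
    (e := v) (by omega)
  simp only [cenB, show Nat.blt v 4 = true by rw [Nat.blt_eq]; exact hv, if_true,
    Compute.allBelow_eq_true] at h
  have hgen : ∀ j, 15 - 15 ≤ j → j < 15 → gg j ∈ Subgroup.centralizer ({sy 15 v} : Set Mg) := by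
    intro j _ hj
    have hj' := h (14 - j) (by omega)
    have hlt : 2 ^ (14 - j) < 32768 :=
      lt_of_lt_of_le (Nat.pow_lt_pow_right (by norm_num) (show 14 - j < 15 by omega)) (by norm_num)
    rw [comm_iff (by omega) hlt, gg_eq_sy (by omega) le_rfl, show 14 - (14 - j) = j by omega] at hj'
    exact Subgroup.mem_centralizer_singleton_iff.2 hj'.symm
  exact (Subgroup.mem_centralizer_singleton_iff.1
    (sy_mem le_rfl hgen e (by norm_num; omega))).symm

theorem center_cases {x : Mg} (hx : x ∈ S) (hc : ∀ y ∈ S, x * y = y * x) :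
    ∃ v < 4, x = sy 15 v := by
  obtain ⟨e, he, rfl⟩ := mem_S.1 hx
  by_contra hne
  have h4 : Nat.blt e 4 = false := Bool.eq_false_iff.2 fun h => hne ⟨e, by rwa [Nat.blt_eq] at h, rfl⟩
  have h := eight cen_at0 cen_at1 cen_at2 cen_at3 cen_at4 cen_at5 cen_at6 cen_at7 he
  simp only [cenB, h4, Bool.false_eq_true, if_false, Bool.not_eq_true', Bool.eq_false_iff, ne_eq,
    Compute.allBelow_eq_true, not_forall] at h
  obtain ⟨k, hk, hk'⟩ := h
  have hlt : 2 ^ k < 32768 :=
    lt_of_lt_of_le (Nat.pow_lt_pow_right (by norm_num) hk) (by norm_num)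
  exact hk' ((comm_iff he hlt).2 (hc _ (sy_mem_S hlt)))

theorem small_sq {v : ℕ} (hv : v < 4) : sy 15 v * sy 15 v = 1 := by
  rw [← sy_zero 15, ← sq_iff (by omega) (by norm_num)]
  interval_cases v <;> decide +kernel

theorem node_conj : ∀ i < 991, ∃ h : Mg, ∃ v < 4, h * sy 15 (nElem i) * h⁻¹ = sy 15 v := by
  intro i
  induction i using Nat.strong_induction_on with
  | _ i ih =>
    intro hi
    have h := allFrom_spec node_ok (Nat.zero_le i) (by omega)
    simp only [nodeB, Bool.and_eq_true, Nat.blt_eq] at h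
    obtain ⟨hlt, h⟩ := h
    split_ifs at h with hg
    · simp only [withPf_eq, Bool.and_eq_true, Nat.blt_eq, Compute.allBelow_eq_true, Nat.beq_eq] at h
      obtain ⟨hp, hconj⟩ := h
      have hplt : nElem (nPar i) < 32768 := Nat.mod_lt _ (by norm_num)
      have e : sy 15 (nElem i) * gg (nGen i) = gg (nGen i) * sy 15 (nElem (nPar i)) := by
        refine ext_S (mul_mem (sy_mem_S hlt) (gg_mem_S hg)) (mul_mem (gg_mem_S hg) (sy_mem_S hplt))
          fun x hx => ?_
        rw [(((acts_sy hlt).mul (acts_gg hg)) x hx).2, (((acts_gg hg).mul (acts_sy hplt)) x hx).2]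
        exact congrArg pt (hconj x hx)
      obtain ⟨c, v, hv, hc⟩ := ih _ hp (hp.trans hi)
      refine ⟨c * (gg (nGen i))⁻¹, v, hv, ?_⟩
      rw [← hc, show sy 15 (nElem i) = gg (nGen i) * sy 15 (nElem (nPar i)) * (gg (nGen i))⁻¹ from
        eq_mul_inv_of_mul_eq e]
      group
    · simp only [Bool.or_eq_true, Nat.blt_eq, List.any_eq_true, Nat.beq_eq] at h
      rcases h with h | ⟨r, hr, he⟩
      · exact ⟨1, _, h, by group⟩
      · have hR := root_ok
        simp only [rootB, List.all_eq_true, Bool.and_eq_true, Nat.blt_eq] at hR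
        obtain ⟨⟨-, hv⟩, hw⟩ := hR r hr
        have hl := letters_ok
        simp only [lettersB, Bool.and_eq_true, List.all_eq_true, Nat.blt_eq] at hl
        have app2 : ∀ {u v : List ℕ}, (∀ a ∈ u, a < 2) → (∀ a ∈ v, a < 2) → ∀ a ∈ u ++ v, a < 2 :=
          fun hu hv a ha => (List.mem_append.1 ha).elim (hu a) (hv a)
        have := wm_eq (app2 (hl.2 r hr) (wordOf_lt _ _ _)) (app2 (wordOf_lt _ _ _) (hl.2 r hr)) hw
        rw [wm_append, wm_append] at this
        refine ⟨wm r.2.2, _, hv, ?_⟩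
        rw [← he]
        exact mul_inv_eq_of_eq_mul this

theorem inv_conj {a : Mg} (ha : a ∈ S) (h2 : a * a = 1) :
    ∃ h : Mg, ∃ v < 4, h * a * h⁻¹ = sy 15 v := by
  obtain ⟨e, he, rfl⟩ := mem_S.1 ha
  have hb := eight inv_at0 inv_at1 inv_at2 inv_at3 inv_at4 inv_at5 inv_at6 inv_at7 he
  have hsq : sqIsB e 0 = true := (sq_iff he (by norm_num)).2 (by rw [sy_zero, h2])
  simp only [invB, hsq, Bool.not_true, Bool.false_or, forceN_eq, Bool.or_eq_true, Bool.and_eq_true,
    Nat.blt_eq, Nat.beq_eq] at hb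
  rcases hb with rfl | ⟨hi, hi'⟩
  · exact ⟨1, 0, by norm_num, by group⟩
  · rw [← hi']; exact node_conj _ hi

theorem cntSq_succ (v lo n : ℕ) :
    cntSq v lo (n + 1) = cntSq v lo n + if sqIsB (lo + n) v then 1 else 0 := by
  show (StemCert.forceN (cntSq v lo n) fun c' => if sqIsB (lo + n) v then c' + 1 else c') = _
  rw [forceN_eq]
  split_ifs <;> rfl

theorem cntSq_add (v lo a : ℕ) : ∀ b, cntSq v lo (a + b) = cntSq v lo a + cntSq v (lo + a) b
  | 0 => by simp [cntSq]
  | b + 1 => by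
    rw [← add_assoc, cntSq_succ, cntSq_succ, cntSq_add v lo a b, add_assoc, ← add_assoc lo a b]

theorem cntSq_filter (v : ℕ) : ∀ n,
    cntSq v 0 n = ((Finset.range n).filter fun e => sqIsB e v = true).card
  | 0 => by simp [cntSq]
  | n + 1 => by
    rw [cntSq_succ, cntSq_filter v n, zero_add, Finset.range_add_one, Finset.filter_insert]
    split_ifs with h
    · rw [Finset.card_insert_of_notMem (by simp)]
    · rfl

theorem card_roots {v : ℕ} (hv : v < 32768) :
    Nat.card {x : ↥S // x * x = ⟨sy 15 v, sy_mem_S hv⟩} = cntSq v 0 32768 := by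
  classical
  rw [← Nat.card_congr (Equiv.subtypeEquiv equivS (p := fun e : Fin 32768 => sqIsB e v = true) fun e => by
      exact (sq_iff e.2 hv).trans ⟨fun h => Subtype.ext h, fun h => congrArg Subtype.val h⟩), cntSq_filter, Nat.card_eq_fintype_card,
    Fintype.card_subtype, ← Finset.card_map Fin.valEmbedding]
  congr 1
  ext e
  simp only [Finset.mem_map, Finset.mem_filter, Finset.mem_univ, true_and, Finset.mem_range,
    Fin.valEmbedding_apply]
  exact ⟨fun ⟨a, ha, e'⟩ => e' ▸ ⟨a.2, ha⟩, fun ⟨h1, h2⟩ => ⟨⟨e, h1⟩, h2, rfl⟩⟩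

theorem sum16 (v : ℕ) : cntSq v 0 32768 =
    ((List.range 16).map fun j => cntSq v (2048 * j) 2048).sum := by
  have : ∀ n, cntSq v 0 (2048 * n) = ((List.range n).map fun j => cntSq v (2048 * j) 2048).sum := by
    intro n
    induction n with
    | zero => simp [cntSq]
    | succ n ih =>
      rw [Nat.mul_succ, cntSq_add, zero_add, ih, List.range_succ, List.map_append, List.sum_append]
      simp
  exact this 16

theorem roots_one : cntSq 1 0 32768 = 384 := by
  simp only [sum16, List.range, List.range.loop, List.map_cons, List.map_nil, List.sum_cons,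
    List.sum_nil, Nat.reduceMul, Nat.reduceAdd, cnt1_at0, cnt1_at1, cnt1_at2, cnt1_at3, cnt1_at4, cnt1_at5,
    cnt1_at6, cnt1_at7, cnt1_at8, cnt1_at9, cnt1_at10, cnt1_at11, cnt1_at12, cnt1_at13, cnt1_at14,
    cnt1_at15]

theorem roots_two : cntSq 2 0 32768 = 608 := by
  simp only [sum16, List.range, List.range.loop, List.map_cons, List.map_nil, List.sum_cons,
    List.sum_nil, Nat.reduceMul, Nat.reduceAdd, cnt2_at0, cnt2_at1, cnt2_at2, cnt2_at3, cnt2_at4, cnt2_at5,
    cnt2_at6, cnt2_at7, cnt2_at8, cnt2_at9, cnt2_at10, cnt2_at11, cnt2_at12, cnt2_at13, cnt2_at14,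
    cnt2_at15]

theorem roots_three : cntSq 3 0 32768 = 256 := by
  simp only [sum16, List.range, List.range.loop, List.map_cons, List.map_nil, List.sum_cons,
    List.sum_nil, Nat.reduceMul, Nat.reduceAdd, cnt3_at0, cnt3_at1, cnt3_at2, cnt3_at3, cnt3_at4, cnt3_at5,
    cnt3_at6, cnt3_at7, cnt3_at8, cnt3_at9, cnt3_at10, cnt3_at11, cnt3_at12, cnt3_at13, cnt3_at14,
    cnt3_at15]

attribute [local irreducible] sy cntSq sqIsB

/-- No automorphism of the Sylow 2-subgroup moves the central involution to another one of the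
centre. -/
theorem no_auto (α : ↥S ≃* ↥S) {v : ℕ} (hv : v = 2 ∨ v = 3) :
    (α ⟨zc, zc_mem⟩ : Mg) ≠ sy 15 v := by
  intro h
  have hv' : v < 32768 := by omega
  have hz : (⟨zc, zc_mem⟩ : ↥S) = ⟨sy 15 1, sy_mem_S (by norm_num)⟩ := Subtype.ext sy_one.symm
  have he : α ⟨sy 15 1, sy_mem_S (by norm_num)⟩ = ⟨sy 15 v, sy_mem_S hv'⟩ := Subtype.ext (hz ▸ h)
  have h1 := card_roots (v := 1) (by norm_num)
  have h2 := card_roots hv'
  have := Nat.card_congr (Equiv.subtypeEquiv α.toEquiv
    (p := fun x : ↥S => x * x = ⟨sy 15 1, sy_mem_S (show (1 : ℕ) < 32768 by norm_num)⟩)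
    (q := fun x : ↥S => x * x = ⟨sy 15 v, sy_mem_S hv'⟩) fun x => by
      show x * x = ⟨sy 15 1, sy_mem_S (show (1 : ℕ) < 32768 by norm_num)⟩ ↔ α x * α x = ⟨sy 15 v, sy_mem_S hv'⟩
      rw [← he, ← map_mul, α.injective.eq_iff])
  rw [h1, h2, roots_one] at this
  rcases hv with rfl | rfl
  · rw [roots_two] at this; omega
  · rw [roots_three] at this; omega

end Cfsg.Agent.StdRu
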