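import Mathlib
import Cfsg.Agent.StdRu.Sylow
import Cfsg.Prelude.Def_TwoFusion

/-!
A standard double cover of the Rudvalis group whose centraliser has cyclic Sylow 2-subgroups: its
central involution commutes with none of its other conjugates.
-/

set_option autoImplicit false
set_option linter.unusedSectionVars false

namespace Cfsg.Agent.StdRu

open Subgroup

/-- A 2-subgroup of the double cover is conjugate into the Sylow subgroup. -/
theorem conj_into_S {Y : Subgroup Mg} (hY : IsPGroup 2 ↥Y) : ∃ h : Mg, ∀ y ∈ Y, h * y * h⁻¹ ∈ S := by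
  have hS : IsPGroup 2 ↥S := IsPGroup.of_card (n := 15) (by rw [card_S]; norm_num)
  have hidx : ¬ 2 ∣ S.index := by
    have h := S.card_mul_index
    rw [card_S, card_Mg] at h
    omega
  have : Fact (Nat.Prime 2) := ⟨Nat.prime_two⟩
  obtain ⟨Q, hQ⟩ := hY.exists_le_sylow
  obtain ⟨h, hh⟩ := MulAction.exists_smul_eq Mg Q (hS.toSylow hidx)
  refine ⟨h, fun y hy => ?_⟩
  have hmem : h * y * h⁻¹ ∈ ((h • Q : Sylow 2 Mg) : Subgroup Mg) := by
    rw [Sylow.coe_subgroup_smul]
    exact Subgroup.smul_mem_pointwise_smul _ (MulAut.conj h) _ (hQ hy)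
  rwa [hh, IsPGroup.toSylow_coe] at hmem

theorem two_group_zpowers {G : Type*} [Group G] {x : G} {n : ℕ} (h : x ^ (2 ^ n) = 1) :
    IsPGroup 2 ↥(Subgroup.zpowers x) := by
  intro y
  refine ⟨n, Subtype.ext ?_⟩
  obtain ⟨i, hi⟩ := y.2
  rw [SubgroupClass.coe_pow, ← hi, OneMemClass.coe_one, ← zpow_natCast, ← zpow_mul, mul_comm,
    zpow_mul, zpow_natCast, h, one_zpow]

theorem zc_comm (m : Mg) : m * zc = zc * m := Subgroup.mem_center_iff.1 zc_center m

/-- The central involution is not a fourth power. -/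
theorem no_root4 (m : Mg) : m * m * (m * m) ≠ zc := by
  intro h
  have h8 : m ^ (2 ^ 3) = 1 := by
    rw [← zc_sq, ← h]; simp [pow_succ, mul_assoc]
  obtain ⟨c, hc⟩ := conj_into_S (two_group_zpowers h8)
  refine no_fourth (hc m (mem_zpowers m)) ?_
  calc c * m * c⁻¹ * (c * m * c⁻¹) * (c * m * c⁻¹ * (c * m * c⁻¹))
      = c * (m * m * (m * m)) * c⁻¹ := by group
    _ = zc := by rw [h, zc_comm, mul_inv_cancel_right]

/-- What the hypothesis of a standard component gives. -/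
structure Base (G : Type*) [Group G] where
  /-- the component -/
  φ : Mg →* G
  inj : Function.Injective φ
  /-- the centraliser of the involution is the product -/
  split : ∀ h : G, h * φ zc = φ zc * h →
    ∃ m : Mg, ∃ k ∈ centralizer (φ.range : Set G), h = φ m * k
  /-- the centre of the component -/
  center : ∀ x ∈ Subgroup.center Mg, x = 1 ∨ x = zc
  /-- the centraliser has one involution -/
  uniq : ∀ k ∈ centralizer (φ.range : Set G), k * k = 1 → k = 1 ∨ k = φ zc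

namespace Base

variable {G : Type*} [Group G] (B : Base G)

/-- The involution. -/
noncomputable def z : G := B.φ zc

/-- The centraliser of the component. -/
def K : Subgroup G := centralizer (B.φ.range : Set G)

theorem mem_K {k : G} : k ∈ B.K ↔ ∀ m, k * B.φ m = B.φ m * k := by
  refine ⟨fun h m => (mem_centralizer_iff.1 h _ ⟨m, rfl⟩).symm, fun h => mem_centralizer_iff.2 ?_⟩
  rintro _ ⟨m, rfl⟩
  exact (h m).symm

theorem z_sq : B.z * B.z = 1 := by rw [z, ← map_mul, zc_sq, map_one]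

theorem z_inv : B.z⁻¹ = B.z := inv_eq_of_mul_eq_one_right B.z_sq

theorem z_ne : B.z ≠ 1 := (map_ne_one_iff _ B.inj).2 zc_ne

theorem z_mem_K : B.z ∈ B.K := B.mem_K.2 fun m => by rw [z, ← map_mul, ← map_mul, zc_comm]

theorem inter {m : Mg} (h : B.φ m ∈ B.K) : m = 1 ∨ m = zc :=
  B.center m (Subgroup.mem_center_iff.2 fun x => B.inj (by rw [map_mul, map_mul, B.mem_K.1 h x]))

/-- The conjugate configuration. -/
noncomputable def conj (g : G) : Base G where
  φ := (MulAut.conj g).toMonoidHom.comp B.φ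
  inj := (MulAut.conj g).injective.comp B.inj
  center := B.center
  split h hh := by
    simp only [MonoidHom.comp_apply, MulEquiv.coe_toMonoidHom, MulAut.conj_apply] at hh
    obtain ⟨m, k, hk, e⟩ := B.split (g⁻¹ * h * g) (by
      calc g⁻¹ * h * g * B.φ zc = g⁻¹ * (h * (g * B.φ zc * g⁻¹)) * g := by group
        _ = _ := by rw [hh]; group)
    refine ⟨m, g * k * g⁻¹, mem_centralizer_iff.2 ?_, ?_⟩
    · rintro _ ⟨x, rfl⟩
      have h1 : B.φ x * k = k * B.φ x := mem_centralizer_iff.1 hk _ ⟨x, rfl⟩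
      simp only [MonoidHom.comp_apply, MulEquiv.coe_toMonoidHom, MulAut.conj_apply]
      calc g * B.φ x * g⁻¹ * (g * k * g⁻¹) = g * (B.φ x * k) * g⁻¹ := by group
        _ = _ := by rw [h1]; group
    · simp only [MonoidHom.comp_apply, MulEquiv.coe_toMonoidHom, MulAut.conj_apply]
      calc h = g * (g⁻¹ * h * g) * g⁻¹ := by group
        _ = _ := by rw [e]; group
  uniq k hk h2 := by
    have hk' : g⁻¹ * k * g ∈ B.K := B.mem_K.2 fun m => by
      have := mem_centralizer_iff.1 hk _ ⟨m, rfl⟩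
      simp only [MonoidHom.comp_apply, MulEquiv.coe_toMonoidHom, MulAut.conj_apply] at this
      calc g⁻¹ * k * g * B.φ m = g⁻¹ * (k * (g * B.φ m * g⁻¹)) * g := by group
        _ = _ := by rw [← this]; group
    simp only [MonoidHom.comp_apply, MulEquiv.coe_toMonoidHom, MulAut.conj_apply]
    rcases B.uniq _ hk' (by
      calc g⁻¹ * k * g * (g⁻¹ * k * g) = g⁻¹ * (k * k) * g := by group
        _ = 1 := by rw [h2]; group) with e | e
    · left
      calc k = g * (g⁻¹ * k * g) * g⁻¹ := by group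
        _ = 1 := by rw [e]; group
    · right
      rw [← e]; group

theorem conj_phi (g : G) (m : Mg) : (B.conj g).φ m = g * B.φ m * g⁻¹ := rfl

theorem conj_z (g : G) : (B.conj g).z = g * B.z * g⁻¹ := rfl

theorem mem_conj_K {g k : G} : k ∈ (B.conj g).K ↔ g⁻¹ * k * g ∈ B.K := by
  rw [mem_K, mem_K]
  refine forall_congr' fun m => ?_
  rw [conj_phi]
  constructor <;> intro h
  · calc g⁻¹ * k * g * B.φ m = g⁻¹ * (k * (g * B.φ m * g⁻¹)) * g := by group
      _ = _ := by rw [h]; group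
  · calc k * (g * B.φ m * g⁻¹) = g * (g⁻¹ * k * g * B.φ m) * g⁻¹ := by group
      _ = _ := by rw [h]; group

theorem conj_K (g : G) : (B.conj g).K = B.K.map (MulAut.conj g).toMonoidHom := by
  ext k
  rw [B.mem_conj_K, Subgroup.mem_map]
  simp only [MulEquiv.coe_toMonoidHom, MulAut.conj_apply]
  constructor
  · exact fun h => ⟨_, h, by group⟩
  · rintro ⟨x, hx, rfl⟩
    rwa [show g⁻¹ * (g * x * g⁻¹) * g = x by group]

theorem card_conj_K (g : G) : Nat.card ↥(B.conj g).K = Nat.card ↥B.K := by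
  rw [conj_K]
  exact (Nat.card_congr (B.K.equivMapOfInjective _ (MulAut.conj g).injective).toEquiv).symm

/-- The product map onto the centraliser. -/
noncomputable def f : Mg × ↥B.K →* G :=
  MonoidHom.noncommCoprod B.φ B.K.subtype fun m k => (B.mem_K.1 k.2 m).symm

theorem f_apply (p : Mg × ↥B.K) : B.f p = B.φ p.1 * (p.2 : G) := rfl

theorem f_comm (p : Mg × ↥B.K) : B.f p * B.z = B.z * B.f p := by
  show B.φ p.1 * (p.2 : G) * B.φ zc = B.φ zc * (B.φ p.1 * (p.2 : G))
  rw [mul_assoc, B.mem_K.1 p.2.2 zc, ← mul_assoc, ← map_mul, ← mul_assoc, ← map_mul, zc_comm]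

theorem f_ker : B.f.ker = Subgroup.zpowers ((zc, ⟨B.z, B.z_mem_K⟩) : Mg × ↥B.K) := by
  refine le_antisymm ?_ ?_
  · rintro ⟨m, k⟩ h
    rw [MonoidHom.mem_ker, f_apply] at h
    have hm : B.φ m ∈ B.K := by
      rw [eq_inv_of_mul_eq_one_left h]; exact inv_mem k.2
    rcases B.inter hm with rfl | rfl
    · rw [map_one, one_mul] at h
      rw [show k = 1 from Subtype.ext h]
      exact one_mem _
    · have hk : (k : G) = B.z := by
        rw [eq_inv_of_mul_eq_one_right h]; exact B.z_inv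
      rw [show k = ⟨B.z, B.z_mem_K⟩ from Subtype.ext hk]
      exact mem_zpowers _
  · rw [zpowers_le, MonoidHom.mem_ker, f_apply]
    exact B.z_sq

theorem card_f_ker : Nat.card ↥B.f.ker = 2 := by
  rw [f_ker, Nat.card_zpowers, orderOf_eq_prime_iff]
  refine ⟨?_, fun h => zc_ne (congrArg Prod.fst h)⟩
  rw [pow_two]
  exact Prod.ext zc_sq (Subtype.ext B.z_sq)

variable [Finite G]

theorem card_map {Z : Subgroup (Mg × ↥B.K)} (hZ : B.f.ker ≤ Z) :
    2 * Nat.card ↥(Z.map B.f) = Nat.card ↥Z := by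
  have hk : (B.f.comp Z.subtype).ker = B.f.ker.subgroupOf Z := rfl
  have hr : (B.f.comp Z.subtype).range = Z.map B.f := by
    rw [MonoidHom.range_comp, Subgroup.range_subtype]
  have h := card_mul_index (B.f.comp Z.subtype).ker
  rw [index_ker, hr, hk, Nat.card_congr (subgroupOfEquivOfLe hZ).toEquiv, B.card_f_ker] at h
  exact h

/-- The 2-part of the order of the centraliser of the component. -/
noncomputable def r : ℕ := 2 ^ (Nat.card ↥B.K).factorization 2

/-- A Sylow 2-subgroup of the centraliser of the component. -/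
noncomputable def R : Sylow 2 ↥B.K := default

theorem card_R : Nat.card ↥(B.R : Subgroup ↥B.K) = B.r := B.R.card_eq_multiplicity

theorem z_mem_R : (⟨B.z, B.z_mem_K⟩ : ↥B.K) ∈ (B.R : Subgroup ↥B.K) := by
  have : Fact (Nat.Prime 2) := ⟨Nat.prime_two⟩
  have h2 : (⟨B.z, B.z_mem_K⟩ : ↥B.K) ^ (2 ^ 1) = 1 := by
    rw [pow_one, pow_two]; exact Subtype.ext B.z_sq
  obtain ⟨Q, hQ⟩ := (two_group_zpowers h2).exists_le_sylow
  obtain ⟨c, hc⟩ := MulAction.exists_smul_eq ↥B.K Q B.R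
  rw [← hc]
  have hmem := Subgroup.smul_mem_pointwise_smul _ (MulAut.conj c) _ (hQ (mem_zpowers _))
  rw [Sylow.coe_subgroup_smul]
  have e : (MulAut.conj c) • (⟨B.z, B.z_mem_K⟩ : ↥B.K) = ⟨B.z, B.z_mem_K⟩ := by
    refine Subtype.ext ?_
    show (c : G) * B.z * (c : G)⁻¹ = B.z
    rw [z, B.mem_K.1 c.2 zc, mul_inv_cancel_right]
  rwa [e] at hmem

theorem two_dvd_r : 2 ∣ B.r := by
  rw [← B.card_R]
  have h : orderOf (⟨_, B.z_mem_R⟩ : ↥(B.R : Subgroup ↥B.K)) = 2 := by
    refine orderOf_eq_prime (Subtype.ext (Subtype.ext ?_)) fun e => B.z_ne ?_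
    · simp only [pow_two, Subgroup.coe_mul, OneMemClass.coe_one]
      exact B.z_sq
    · exact congrArg (fun x : ↥(B.R : Subgroup ↥B.K) => ((x : ↥B.K) : G)) e
  have hd := orderOf_dvd_natCard (⟨_, B.z_mem_R⟩ : ↥(B.R : Subgroup ↥B.K))
  rwa [h] at hd

theorem r_conj (g : G) : (B.conj g).r = B.r := by rw [r, r, B.card_conj_K g]

theorem mem_range_f {h : G} (hh : h * B.z = B.z * h) : h ∈ B.f.range := by
  obtain ⟨m, k, hk, rfl⟩ := B.split h hh
  exact ⟨(m, ⟨k, hk⟩), rfl⟩

/-- A 2-subgroup of the centraliser of the involution: its order is bounded, and when the bound is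
reached it contains a Sylow 2-subgroup of the component. -/
theorem bound_full {X : Subgroup G} (hX : IsPGroup 2 ↥X) (hc : ∀ x ∈ X, x * B.z = B.z * x)
    (hz : B.z ∈ X) : 2 * Nat.card ↥X ≤ 32768 * B.r ∧ (2 * Nat.card ↥X = 32768 * B.r →
      ∃ Y : Subgroup Mg, IsPGroup 2 ↥Y ∧ Nat.card ↥Y = 32768 ∧ ∀ y ∈ Y, B.φ y ∈ X) := by
  have : Fact (Nat.Prime 2) := ⟨Nat.prime_two⟩
  set Z : Subgroup (Mg × ↥B.K) := X.comap B.f with hZdef
  have hker : B.f.ker ≤ Z := fun p hp => by
    rw [hZdef, mem_comap, MonoidHom.mem_ker.1 hp]; exact one_mem X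
  have hmap : Z.map B.f = X := by
    rw [hZdef, Subgroup.map_comap_eq]
    exact inf_eq_right.2 fun x hx => B.mem_range_f (hc x hx)
  have hcard := B.card_map hker
  rw [hmap] at hcard
  obtain ⟨n, hn⟩ := IsPGroup.iff_card.1 hX
  have hZ2 : IsPGroup 2 ↥Z := IsPGroup.of_card (n := n + 1) (by rw [← hcard, hn, pow_succ'])
  obtain ⟨Y, hY⟩ : ∃ Y, Y = Z.map (MonoidHom.fst Mg ↥B.K) := ⟨_, rfl⟩
  obtain ⟨W, hW⟩ : ∃ W, W = Z.map (MonoidHom.snd Mg ↥B.K) := ⟨_, rfl⟩
  have hY2 : IsPGroup 2 ↥Y := hY ▸ hZ2.map _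
  have hW2 : IsPGroup 2 ↥W := hW ▸ hZ2.map _
  have hY1 : Nat.card ↥Y ≤ 32768 := by
    obtain ⟨h, hh⟩ := conj_into_S hY2
    rw [← card_S]
    exact Nat.card_le_card_of_injective (fun y => (⟨h * y * h⁻¹, hh y y.2⟩ : ↥S)) fun a b e =>
      Subtype.ext (mul_left_cancel (mul_right_cancel (congrArg Subtype.val e)))
  have hW1 : Nat.card ↥W ≤ B.r := by
    obtain ⟨Q, hQ⟩ := hW2.exists_le_sylow
    exact (Subgroup.card_le_of_le hQ).trans (le_of_eq Q.card_eq_multiplicity)
  have hle : Z ≤ Y.prod W := fun p hp =>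
    Subgroup.mem_prod.2 ⟨hY ▸ ⟨p, hp, rfl⟩, hW ▸ ⟨p, hp, rfl⟩⟩
  have hprod : Nat.card ↥(Y.prod W) = Nat.card ↥Y * Nat.card ↥W := by
    rw [Nat.card_congr (Y.prodEquiv W).toEquiv, Nat.card_prod]
  have hle' := Subgroup.card_le_of_le hle
  refine ⟨?_, fun heq => ?_⟩
  · rw [hcard]
    exact hle'.trans (hprod ▸ Nat.mul_le_mul hY1 hW1)
  · rw [hcard] at heq
    have hY3 : Nat.card ↥Y = 32768 := by
      by_contra hne
      have h1 : Nat.card ↥Y * Nat.card ↥W ≤ (32768 - 1) * B.r :=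
        Nat.mul_le_mul (by omega) hW1
      have h2 : 0 < B.r := Nat.two_pow_pos _
      rw [hprod] at hle'
      omega
    have hall : Z = Y.prod W := Subgroup.eq_of_le_of_card_ge hle (by
      rw [hprod, hY3, heq]; exact Nat.mul_le_mul le_rfl hW1)
    refine ⟨Y, hY2, hY3, fun y hy => ?_⟩
    have : ((y, 1) : Mg × ↥B.K) ∈ Z := hall.symm ▸ Subgroup.mem_prod.2 ⟨hy, one_mem W⟩
    rwa [hZdef, mem_comap, f_apply, OneMemClass.coe_one, mul_one] at this

/-- The standard Sylow 2-subgroup of the centraliser of the involution, moved by `h`. -/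
noncomputable def X (h : Mg) : Subgroup G :=
  ((S.map (MulAut.conj h).toMonoidHom).prod (B.R : Subgroup ↥B.K)).map B.f

theorem mem_X {h : Mg} {x : G} :
    x ∈ B.X h ↔ ∃ s ∈ S, ∃ k ∈ (B.R : Subgroup ↥B.K), B.φ (h * s * h⁻¹) * (k : G) = x := by
  constructor
  · rintro ⟨⟨m, k⟩, hp, rfl⟩
    obtain ⟨⟨s, hs, rfl⟩, hk⟩ := Subgroup.mem_prod.1 hp
    exact ⟨s, hs, k, hk, rfl⟩
  · rintro ⟨s, hs, k, hk, rfl⟩
    exact ⟨(h * s * h⁻¹, k), Subgroup.mem_prod.2 ⟨⟨s, hs, rfl⟩, hk⟩, rfl⟩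

theorem X_comm (h : Mg) {x : G} (hx : x ∈ B.X h) :
    x * B.z = B.z * x ∧ ∀ v < 4, x * B.φ (h * sy 15 v * h⁻¹) = B.φ (h * sy 15 v * h⁻¹) * x := by
  obtain ⟨s, hs, k, hk, rfl⟩ := B.mem_X.1 hx
  refine ⟨B.f_comm (h * s * h⁻¹, k), fun v hv => ?_⟩
  rw [mul_assoc, B.mem_K.1 k.2 _, ← mul_assoc, ← mul_assoc, ← map_mul, ← map_mul]
  congr 2
  calc h * s * h⁻¹ * (h * sy 15 v * h⁻¹) = h * (s * sy 15 v) * h⁻¹ := by group
    _ = _ := by rw [← central_small hv hs]; group

theorem z_mem_X (h : Mg) : B.z ∈ B.X h := B.mem_X.2 ⟨1, one_mem S, _, B.z_mem_R, by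
  rw [mul_one, mul_inv_cancel, map_one, one_mul]⟩

theorem card_X (h : Mg) : 2 * Nat.card ↥(B.X h) = 32768 * B.r ∧ IsPGroup 2 ↥(B.X h) := by
  have : Fact (Nat.Prime 2) := ⟨Nat.prime_two⟩
  have hker : B.f.ker ≤ (S.map (MulAut.conj h).toMonoidHom).prod (B.R : Subgroup ↥B.K) := by
    rw [f_ker, zpowers_le]
    exact Subgroup.mem_prod.2 ⟨⟨zc, zc_mem, by
      simp only [MulEquiv.coe_toMonoidHom, MulAut.conj_apply]
      rw [zc_comm, mul_inv_cancel_right]⟩, B.z_mem_R⟩
  have hcard : Nat.card ↥((S.map (MulAut.conj h).toMonoidHom).prod (B.R : Subgroup ↥B.K)) =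
      32768 * B.r := by
    rw [Nat.card_congr (Subgroup.prodEquiv _ _).toEquiv, Nat.card_prod, B.card_R,
      ← Nat.card_congr (S.equivMapOfInjective _ (MulAut.conj h).injective).toEquiv, card_S]
  refine ⟨(B.card_map hker).trans hcard, (IsPGroup.of_card (n := 15 + (Nat.card ↥B.K).factorization 2)
    (hcard.trans ?_)).map _⟩
  rw [r, pow_add]
  norm_num

/-- An element of order four of the component does not centralise a Sylow 2-subgroup of it. -/
theorem no_central_four {a : Mg} (ha : a * a = zc) {Y : Subgroup Mg} (hY : IsPGroup 2 ↥Y)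
    (hcard : Nat.card ↥Y = 32768) (hc : ∀ y ∈ Y, a * y = y * a) : False := by
  have : Fact (Nat.Prime 2) := ⟨Nat.prime_two⟩
  obtain ⟨h, hh⟩ := conj_into_S hY
  have hmap : Y.map (MulAut.conj h).toMonoidHom = S := by
    refine Subgroup.eq_of_le_of_card_ge ?_ (le_of_eq ?_)
    · rintro _ ⟨y, hy, rfl⟩; exact hh y hy
    · rw [← Nat.card_congr (Y.equivMapOfInjective _ (MulAut.conj h).injective).toEquiv, hcard, card_S]
  set b := h * a * h⁻¹ with hb
  have hbc : ∀ s ∈ S, b * s = s * b := fun s hs => by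
    obtain ⟨y, hy, rfl⟩ := hmap.symm ▸ hs
    simp only [MulEquiv.coe_toMonoidHom, MulAut.conj_apply, hb]
    calc h * a * h⁻¹ * (h * y * h⁻¹) = h * (a * y) * h⁻¹ := by group
      _ = _ := by rw [hc y hy]; group
  have hb2 : b * b = zc := by
    rw [hb]
    calc h * a * h⁻¹ * (h * a * h⁻¹) = h * (a * a) * h⁻¹ := by group
      _ = _ := by rw [ha, zc_comm, mul_inv_cancel_right]
  have hb4 : b ^ (2 ^ 2) = 1 := by rw [← zc_sq, ← hb2]; simp [pow_succ, mul_assoc]
  have hS : IsPGroup 2 ↥S := IsPGroup.of_card (n := 15) (by rw [card_S]; norm_num)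
  have hnorm : Subgroup.zpowers b ≤ Subgroup.normalizer (S : Set Mg) := by
    rw [zpowers_le]
    refine Subgroup.mem_normalizer_iff.2 fun s => ⟨fun hs => ?_, fun hs => ?_⟩
    · rw [hbc s hs, mul_inv_cancel_right]; exact hs
    · have := hbc _ hs
      rw [show s = b * s * b⁻¹ from by
        calc s = b⁻¹ * (b * (b * s * b⁻¹)) * b⁻¹ * b * b⁻¹ * b := by rw [this]; group
          _ = _ := by group]
      exact hs
  obtain ⟨c, hc'⟩ := conj_into_S ((two_group_zpowers hb4).to_sup_of_normal_right' hS hnorm)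
  have hbS : b ∈ S := by
    have he : S = Subgroup.zpowers b ⊔ S := by
      refine Subgroup.eq_of_le_of_card_ge le_sup_right ?_
      refine Nat.card_le_card_of_injective (fun y : ↥(Subgroup.zpowers b ⊔ S) =>
        (⟨c * y * c⁻¹, hc' y y.2⟩ : ↥S)) fun p q e => ?_
      exact Subtype.ext (mul_left_cancel (mul_right_cancel (congrArg Subtype.val e)))
    exact he.symm ▸ (le_sup_left : Subgroup.zpowers b ≤ _) (mem_zpowers b)
  obtain ⟨v, hv, e⟩ := center_cases hbS hbc
  rw [e, small_sq hv] at hb2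
  exact zc_ne hb2.symm

/-- The involution of a commuting conjugate lies in the component. -/
theorem shape {g : G} (hc : g * B.z * g⁻¹ * B.z = B.z * (g * B.z * g⁻¹)) :
    ∃ a : Mg, g * B.z * g⁻¹ = B.φ a ∧ a * a = 1 := by
  set T := B.conj g with hT
  have hTz : T.z = g * B.z * g⁻¹ := B.conj_z g
  have hc' : T.z * B.z = B.z * T.z := hTz.symm ▸ hc
  rw [← hTz]
  -- the two shapes, for either configuration
  have key : ∀ (A : Base G) (w : G), w * w = 1 → w * A.z = A.z * w →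
      (∃ a : Mg, w = A.φ a ∧ a * a = 1) ∨
        ∃ a : Mg, ∃ k ∈ A.K, w = A.φ a * k ∧ a * a = zc ∧ k * k = A.z := by
    intro A w hw hwz
    obtain ⟨a, k, hk, e⟩ := A.split w hwz
    have h1 : A.φ (a * a) * (k * k) = 1 := by
      rw [← hw, e, map_mul]
      calc A.φ a * A.φ a * (k * k) = A.φ a * (A.φ a * k) * k := by group
        _ = A.φ a * (k * A.φ a) * k := by rw [← A.mem_K.1 hk a]
        _ = _ := by group
    have hkk : k * k = (A.φ (a * a))⁻¹ := eq_inv_of_mul_eq_one_right h1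
    have hin : A.φ (a * a) ∈ A.K := by
      rw [eq_inv_of_mul_eq_one_left h1]
      exact inv_mem (mul_mem hk hk)
    rcases A.inter hin with h2 | h2
    · rw [h2, map_one, inv_one] at hkk
      rcases A.uniq k hk hkk with rfl | rfl
      · exact Or.inl ⟨a, by rw [e, mul_one], h2⟩
      · refine Or.inl ⟨a * zc, by rw [e, map_mul], ?_⟩
        calc a * zc * (a * zc) = a * (zc * a) * zc := by group
          _ = a * a * (zc * zc) := by rw [← zc_comm]; group
          _ = 1 := by rw [h2, zc_sq, mul_one]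
    · refine Or.inr ⟨a, k, hk, e, h2, ?_⟩
      rw [hkk, h2]
      exact A.z_inv
  rcases key B T.z T.z_sq hc' with h | ⟨a, k, hk, e, ha, -⟩
  · exact h
  exfalso
  rcases key T B.z B.z_sq hc'.symm with ⟨b, eb, hb⟩ | ⟨b, j, hj, eb, hb, hjj⟩
  · -- the involution is conjugate into the centre of a Sylow subgroup of the other component
    have hb2 : b ^ (2 ^ 1) = 1 := by rw [pow_one, pow_two, hb]
    obtain ⟨c, hcS⟩ := conj_into_S (two_group_zpowers hb2)
    obtain ⟨d, v, hv, hd⟩ := inv_conj (hcS b (mem_zpowers b)) (by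
      calc c * b * c⁻¹ * (c * b * c⁻¹) = c * (b * b) * c⁻¹ := by group
        _ = 1 := by rw [hb]; group)
    obtain ⟨u, hu⟩ : ∃ u, u = (d * c)⁻¹ := ⟨_, rfl⟩
    have hbu : b = u * sy 15 v * u⁻¹ := by rw [hu, ← hd]; group
    have hXz : B.z ∈ T.X u := by
      rw [eb, hbu]
      exact T.mem_X.2 ⟨sy 15 v, sy_mem_S (show v < 32768 by omega), 1, one_mem _, by rw [OneMemClass.coe_one, mul_one]⟩
    have hXc : ∀ x ∈ T.X u, x * B.z = B.z * x := fun x hx => by
      rw [eb, hbu]; exact (T.X_comm u hx).2 v hv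
    obtain ⟨Y, hY2, hY, hYX⟩ := (B.bound_full (T.card_X u).2 hXc hXz).2 (by
      rw [(T.card_X u).1, hT, B.r_conj])
    refine no_central_four ha hY2 hY fun y hy => B.inj ?_
    have h1 := (T.X_comm u (hYX y hy)).1
    rw [e, ← mul_assoc, mul_assoc _ k, B.mem_K.1 hk y, ← mul_assoc] at h1
    rw [map_mul, map_mul]
    exact (mul_right_cancel h1).symm
  · -- a root of the other involution commutes with the involution
    have hjz : j * B.z = B.z * j := by
      rw [eb, ← mul_assoc, T.mem_K.1 hj b]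
    obtain ⟨m, l, hl, ej⟩ := B.split j hjz
    have h2 : B.φ (a⁻¹ * (m * m)) = k * (l * l)⁻¹ := by
      have : B.φ (m * m) * (l * l) = B.φ a * k := by
        rw [← e, ← hjj, ej, map_mul]
        calc B.φ m * B.φ m * (l * l) = B.φ m * (B.φ m * l) * l := by group
          _ = B.φ m * (l * B.φ m) * l := by rw [← B.mem_K.1 hl m]
          _ = _ := by group
      rw [map_mul, map_inv]
      rw [eq_mul_inv_iff_mul_eq, mul_assoc, this]
      group
    have hin : B.φ (a⁻¹ * (m * m)) ∈ B.K := h2 ▸ mul_mem hk (inv_mem (mul_mem hl hl))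
    have hmm : ∃ c, (c = 1 ∨ c = zc) ∧ m * m = a * c :=
      ⟨_, B.inter hin, (mul_inv_cancel_left a _).symm⟩
    obtain ⟨c, hcc, hmm⟩ := hmm
    refine no_root4 m ?_
    rw [hmm]
    rcases hcc with rfl | rfl
    · rw [mul_one, ha]
    · calc a * zc * (a * zc) = a * (zc * a) * zc := by group
        _ = a * a * (zc * zc) := by rw [← zc_comm]; group
        _ = zc := by rw [ha, zc_sq, mul_one]

/-- The involution is not conjugate to a noncentral element of the centre of the Sylow subgroup. -/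
theorem no_central_conj (hcyc : IsCyclic ↥(B.R : Subgroup ↥B.K)) {g : G} {v : ℕ}
    (hv : v = 2 ∨ v = 3) (hg : g * B.z * g⁻¹ = B.φ (sy 15 v)) : False := by
  have : Fact (Nat.Prime 2) := ⟨Nat.prime_two⟩
  have hv4 : v < 4 := by omega
  obtain ⟨hP, hP2⟩ := B.card_X 1
  set P := B.X 1 with hPdef
  set C : Subgroup G := centralizer ({B.z} : Set G) with hC
  have hPC : P ≤ C := fun x hx => mem_centralizer_singleton_iff.2 (B.X_comm 1 hx).1
  set Q := P.map (MulAut.conj g⁻¹).toMonoidHom with hQdef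
  have hQC : Q ≤ C := by
    rintro _ ⟨x, hx, rfl⟩
    refine mem_centralizer_singleton_iff.2 ?_
    have := (B.X_comm 1 hx).2 v hv4
    rw [one_mul, inv_one, mul_one, ← hg] at this
    simp only [MulEquiv.coe_toMonoidHom, MulAut.conj_apply, inv_inv]
    calc g⁻¹ * x * g * B.z = g⁻¹ * (x * (g * B.z * g⁻¹)) * g := by group
      _ = _ := by rw [this]; group
  have hP' : IsPGroup 2 ↥(P.subgroupOf C) := hP2.of_equiv (subgroupOfEquivOfLe hPC).symm
  have hmax : ∀ {W : Subgroup ↥C}, IsPGroup 2 ↥W → P.subgroupOf C ≤ W → W = P.subgroupOf C := by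
    intro W hW hle
    refine (Subgroup.eq_of_le_of_card_ge hle ?_).symm
    rw [Nat.card_congr (subgroupOfEquivOfLe hPC).toEquiv,
      Nat.card_congr (W.equivMapOfInjective _ C.subtype_injective).toEquiv]
    have h := (B.bound_full (hW.map C.subtype) (fun x hx => by
      obtain ⟨w, -, rfl⟩ := hx
      exact mem_centralizer_singleton_iff.1 w.2)
      ⟨⟨B.z, hPC (B.z_mem_X 1)⟩, hle (B.z_mem_X 1), rfl⟩).1
    omega
  let SP : Sylow 2 ↥C := ⟨P.subgroupOf C, hP', fun hW hle => hmax hW hle⟩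
  have hQ' : IsPGroup 2 ↥(Q.subgroupOf C) :=
    (hP2.map _).of_equiv (subgroupOfEquivOfLe hQC).symm
  obtain ⟨Q1, hQ1⟩ := hQ'.exists_le_sylow
  obtain ⟨c, hc⟩ := MulAction.exists_smul_eq ↥C Q1 SP
  set n := (c : G) * g⁻¹ with hn
  have hnz : n * B.φ (sy 15 v) * n⁻¹ = B.z := by
    rw [← hg, hn]
    calc (c : G) * g⁻¹ * (g * B.z * g⁻¹) * ((c : G) * g⁻¹)⁻¹ = (c : G) * B.z * (c : G)⁻¹ := by group
      _ = _ := by rw [mem_centralizer_singleton_iff.1 c.2, mul_inv_cancel_right]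
  have hnP : ∀ p ∈ P, n * p * n⁻¹ ∈ P := by
    intro p hp
    have hq : g⁻¹ * p * g ∈ Q := ⟨p, hp, by simp [MulAut.conj_apply]⟩
    have hmem : c * ⟨_, hQC hq⟩ * c⁻¹ ∈ ((c • Q1 : Sylow 2 ↥C) : Subgroup ↥C) := by
      rw [Sylow.coe_subgroup_smul]
      exact Subgroup.smul_mem_pointwise_smul _ (MulAut.conj c) _ (hQ1 (mem_subgroupOf.2 hq))
    rw [hc] at hmem
    have h' : (c : G) * (g⁻¹ * p * g) * (c : G)⁻¹ ∈ P := hmem
    rw [hn, show (c : G) * g⁻¹ * p * ((c : G) * g⁻¹)⁻¹ = (c : G) * (g⁻¹ * p * g) * (c : G)⁻¹ by group]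
    exact h'
  have hPn : P.map (MulAut.conj n).toMonoidHom = P := by
    refine Subgroup.eq_of_le_of_card_ge ?_ (le_of_eq ?_)
    · rintro _ ⟨p, hp, rfl⟩; exact hnP p hp
    · exact Nat.card_congr (P.equivMapOfInjective _ (MulAut.conj n).injective).toEquiv
  have hnP' : ∀ p ∈ P, n⁻¹ * p * n ∈ P := by
    intro p hp
    obtain ⟨q, hq, rfl⟩ := hPn.symm ▸ hp
    simp only [MulEquiv.coe_toMonoidHom, MulAut.conj_apply]
    rwa [show n⁻¹ * (n * q * n⁻¹) * n = q by group]
  have hφP : ∀ s ∈ S, B.φ s ∈ P := fun s hs =>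
    B.mem_X.2 ⟨s, hs, 1, one_mem _, by rw [OneMemClass.coe_one, mul_one, one_mul, inv_one, mul_one]⟩
  have hPform : ∀ p ∈ P, ∃ s ∈ S, ∃ k ∈ (B.R : Subgroup ↥B.K), B.φ s * (k : G) = p := fun p hp => by
    obtain ⟨s, hs, k, hk, e⟩ := B.mem_X.1 hp
    exact ⟨s, hs, k, hk, by rwa [one_mul, inv_one, mul_one] at e⟩
  have hne : sy 15 v ≠ 1 ∧ sy 15 v ≠ zc := by
    refine ⟨fun h => ?_, fun h => ?_⟩
    · have := sy_eq_one (e := v) (by omega) h; omega
    · have := sy_inj 15 le_rfl v (by norm_num; omega) 1 (by norm_num) (h.trans sy_one.symm); omega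
  by_cases hr : B.r = 2
  · -- an automorphism of the Sylow subgroup of the component
    have hRz : ∀ k ∈ (B.R : Subgroup ↥B.K), (k : G) = 1 ∨ (k : G) = B.z := fun k hk => by
      refine B.uniq (k : G) k.2 ?_
      have h2 : (⟨k, hk⟩ : ↥(B.R : Subgroup ↥B.K)) ^ 2 = 1 := by
        have h3 := pow_card_eq_one' (x := (⟨k, hk⟩ : ↥(B.R : Subgroup ↥B.K)))
        rwa [B.card_R, hr] at h3
      have := congrArg (fun x : ↥(B.R : Subgroup ↥B.K) => ((x : ↥B.K) : G)) h2
      simpa [pow_two] using this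
    have hform : ∀ p ∈ P, ∃ s ∈ S, B.φ s = p := fun p hp => by
      obtain ⟨s, hs, k, hk, rfl⟩ := hPform p hp
      rcases hRz k hk with e | e
      · exact ⟨s, hs, by rw [e, mul_one]⟩
      · exact ⟨s * zc, mul_mem hs zc_mem, by rw [e, map_mul]; rfl⟩
    choose f hfS hf using fun s : ↥S => hform _ (hnP _ (hφP s s.2))
    let α : ↥S →* ↥S := MonoidHom.mk' (fun s => ⟨f s, hfS s⟩) fun s t => Subtype.ext (B.inj (by
      show B.φ (f (s * t)) = B.φ (f s * f t)
      rw [map_mul, hf, hf, hf, Subgroup.coe_mul, map_mul]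
      group))
    have hinj : Function.Injective α := fun s t e => Subtype.ext (B.inj (by
      have h := congrArg (fun x : ↥S => B.φ x) e
      change B.φ (f s) = B.φ (f t) at h
      rw [hf, hf] at h
      exact mul_left_cancel (mul_right_cancel h)))
    let β : ↥S ≃* ↥S := MulEquiv.ofBijective α ⟨hinj, Finite.injective_iff_surjective.1 hinj⟩
    have hβ : β ⟨sy 15 v, sy_mem_S (by omega)⟩ = ⟨zc, zc_mem⟩ := Subtype.ext (B.inj (by
      show B.φ (f _) = _
      rw [hf]; exact hnz))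
    exact no_auto β.symm hv (congrArg Subtype.val (β.symm_apply_eq.2 hβ.symm))
  · -- the involution is the square of a central element
    have : IsCyclic ↥(B.R : Subgroup ↥B.K) := hcyc
    obtain ⟨ρ, hρ⟩ := IsCyclic.exists_generator (α := ↥(B.R : Subgroup ↥B.K))
    have hord : orderOf ρ = B.r := by rw [orderOf_eq_card_of_forall_mem_zpowers hρ, B.card_R]
    obtain ⟨i, hi⟩ : ∃ i, B.r = 2 ^ (i + 2) := by
      have h2 := B.two_dvd_r
      rw [r] at hr h2 ⊢
      obtain hk | hk | hk : (Nat.card ↥B.K).factorization 2 = 0 ∨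
          (Nat.card ↥B.K).factorization 2 = 1 ∨ 2 ≤ (Nat.card ↥B.K).factorization 2 := by omega
      · rw [hk] at h2; norm_num at h2
      · rw [hk] at hr; norm_num at hr
      · exact ⟨(Nat.card ↥B.K).factorization 2 - 2, by rw [Nat.sub_add_cancel hk]⟩
    obtain ⟨σ, hσ⟩ : ∃ σ, σ = ρ ^ (2 ^ i) := ⟨_, rfl⟩
    have hσ4 : σ * σ * (σ * σ) = 1 := by
      rw [hσ, ← pow_add, ← pow_add, ← orderOf_dvd_iff_pow_eq_one, hord, hi, pow_add]
      exact ⟨1, by ring⟩
    have hσ2 : σ * σ ≠ 1 := fun h => by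
      rw [hσ, ← pow_add, ← orderOf_dvd_iff_pow_eq_one, hord, hi] at h
      have := Nat.le_of_dvd (by positivity) h
      rw [pow_add] at this
      have := Nat.two_pow_pos i
      omega
    have hsz : ((σ : ↥B.K) : G) * ((σ : ↥B.K) : G) = B.z := by
      refine (B.uniq _ (mul_mem (σ : ↥B.K).2 (σ : ↥B.K).2) ?_).resolve_left fun h => hσ2 ?_
      · exact congrArg (fun x : ↥(B.R : Subgroup ↥B.K) => ((x : ↥B.K) : G)) hσ4
      · exact Subtype.ext (Subtype.ext h)
    have hσP : ((σ : ↥B.K) : G) ∈ P := B.mem_X.2 ⟨1, one_mem _, σ, σ.2, by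
      rw [mul_one, mul_inv_cancel, map_one, one_mul]⟩
    have hσc : ∀ p ∈ P, ((σ : ↥B.K) : G) * p = p * ((σ : ↥B.K) : G) := fun p hp => by
      obtain ⟨s, hs, k, hk, rfl⟩ := hPform p hp
      have := (IsCyclic.isMulCommutative (α := ↥(B.R : Subgroup ↥B.K))).is_comm.comm σ ⟨k, hk⟩
      have h' := congrArg (fun x : ↥(B.R : Subgroup ↥B.K) => ((x : ↥B.K) : G)) this
      simp only [Subgroup.coe_mul] at h'
      rw [← mul_assoc, B.mem_K.1 (σ : ↥B.K).2 s, mul_assoc, h', ← mul_assoc]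
    set y := n⁻¹ * ((σ : ↥B.K) : G) * n with hy
    have hyy : y * y = B.φ (sy 15 v) := by
      rw [hy]
      calc n⁻¹ * ((σ : ↥B.K) : G) * n * (n⁻¹ * ((σ : ↥B.K) : G) * n)
          = n⁻¹ * (((σ : ↥B.K) : G) * ((σ : ↥B.K) : G)) * n := by group
        _ = _ := by rw [hsz, ← hnz]; group
    have hyc : ∀ p ∈ P, y * p = p * y := fun p hp => by
      rw [hy]
      calc n⁻¹ * ((σ : ↥B.K) : G) * n * p
          = n⁻¹ * (((σ : ↥B.K) : G) * (n * p * n⁻¹)) * n := by group
        _ = _ := by rw [hσc _ (hnP p hp)]; group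
    obtain ⟨s, hs, k, hk, e⟩ := hPform y (hnP' _ hσP)
    have hsc : ∀ x ∈ S, s * x = x * s := fun x hx => B.inj (by
      have h1 := hyc _ (hφP x hx)
      rw [← e, mul_assoc, B.mem_K.1 k.2 x, ← mul_assoc, ← mul_assoc] at h1
      rw [map_mul, map_mul]
      exact mul_right_cancel h1)
    obtain ⟨u, hu, rfl⟩ := center_cases hs hsc
    have hK : B.φ (sy 15 v) ∈ B.K := by
      rw [← hyy, ← e]
      have : B.φ (sy 15 u) * (k : G) * (B.φ (sy 15 u) * (k : G)) = (k : G) * (k : G) := by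
        calc B.φ (sy 15 u) * (k : G) * (B.φ (sy 15 u) * (k : G))
            = B.φ (sy 15 u) * ((k : G) * B.φ (sy 15 u)) * (k : G) := by group
          _ = B.φ (sy 15 u) * B.φ (sy 15 u) * ((k : G) * (k : G)) := by
            rw [B.mem_K.1 k.2 (sy 15 u)]; group
          _ = _ := by rw [← map_mul, small_sq hu, map_one, one_mul]
      rw [this]
      exact mul_mem k.2 k.2
    rcases B.inter hK with h | h
    exacts [hne.1 h, hne.2 h]

/-- The involution is isolated. -/
theorem isolated (hcyc : IsCyclic ↥(B.R : Subgroup ↥B.K)) :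
    Cfsg.IsIsolatedInvolution B.z := by
  refine ⟨orderOf_eq_prime (by rw [pow_two, B.z_sq]) B.z_ne, fun g hg => ?_⟩
  obtain ⟨a, ea, ha⟩ := B.shape hg.eq.symm
  obtain ⟨c, hcS⟩ := conj_into_S (two_group_zpowers (x := a) (n := 1) (by rw [pow_one, pow_two, ha]))
  obtain ⟨d, v, hv, hd⟩ := inv_conj (hcS a (mem_zpowers a)) (by
    calc c * a * c⁻¹ * (c * a * c⁻¹) = c * (a * a) * c⁻¹ := by group
      _ = 1 := by rw [ha]; group)
  have hconj : B.φ (d * c) * g * B.z * (B.φ (d * c) * g)⁻¹ = B.φ (sy 15 v) := by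
    rw [← hd, map_mul, map_mul, map_mul, map_mul, map_mul, map_inv, map_inv, ← ea]
    group
  have hback : g * B.z * g⁻¹ = (B.φ (d * c))⁻¹ * B.φ (sy 15 v) * B.φ (d * c) := by
    rw [← hconj]; group
  interval_cases v
  · rw [sy_zero, map_one] at hback
    exact absurd (show B.z = 1 by
      calc B.z = g⁻¹ * (g * B.z * g⁻¹) * g := by group
        _ = 1 := by rw [hback]; group) B.z_ne
  · rw [sy_one] at hback
    rw [hback]
    calc (B.φ (d * c))⁻¹ * B.φ zc * B.φ (d * c) = (B.φ (d * c))⁻¹ * B.φ (zc * (d * c)) := by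
          rw [map_mul B.φ zc, mul_assoc]
      _ = (B.φ (d * c))⁻¹ * (B.φ (d * c) * B.φ zc) := by rw [← zc_comm, map_mul B.φ (d * c)]
      _ = B.z := inv_mul_cancel_left _ _
  · exact (B.no_central_conj hcyc (Or.inl rfl) hconj).elim
  · exact (B.no_central_conj hcyc (Or.inr rfl) hconj).elim

end Base

end Cfsg.Agent.StdRu
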